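import Cfsg.Agent.L34S.B
import Cfsg.Agent.Gold.Iso

/-! Groups with a Sylow 2-subgroup of type `M12`: the model `Md = (ℤ/4)² ⋊ (swap × negation)` and the frames. -/

set_option autoImplicit false
set_option linter.unusedSectionVars false

namespace Cfsg.Agent.M12S

open Cfsg.Agent.BG Cfsg.Agent.CIT Subgroup

/-- `⟨x, y, i, j⟩` stands for `φ(x, y) * w ^ i * t ^ j`; `w` swaps, `t` inverts. -/
@[ext] structure Md where
  x : ZMod 4
  y : ZMod 4
  i : Bool
  j : Bool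
  deriving DecidableEq, Fintype

def sg (j : Bool) (a : ZMod 4) : ZMod 4 := if j then -a else a

instance instGroupMd12 : Group Md where
  mul p q := ⟨p.x + sg p.j (if p.i then q.y else q.x), p.y + sg p.j (if p.i then q.x else q.y), xor p.i q.i, xor p.j q.j⟩
  one := ⟨0, 0, false, false⟩
  inv p := ⟨-sg p.j (if p.i then p.y else p.x), -sg p.j (if p.i then p.x else p.y), p.i, p.j⟩
  mul_assoc := by
    rintro ⟨x, y, i, j⟩ ⟨x', y', i', j'⟩ ⟨x'', y'', i'', j''⟩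
    show Md.mk _ _ _ _ = Md.mk _ _ _ _
    cases i <;> cases j <;> cases i' <;> cases j' <;> ext <;> simp [HMul.hMul, Mul.mul, sg] <;> ring
  one_mul := by decide
  mul_one := by decide
  inv_mul_cancel := by decide

theorem card_Md : Nat.card Md = 64 := by rw [Nat.card_eq_fintype_card]; rfl

def mz : Md := ⟨2, 2, false, false⟩
def ma : Md := ⟨2, 0, false, false⟩
def mw : Md := ⟨0, 0, true, false⟩
def mt : Md := ⟨0, 0, false, true⟩
/-- an involution outside `mQ` -/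
def mu : Md := ⟨1, 0, false, true⟩

/-- subgroup of the model from a decidable predicate -/
def sub (P : Md → Prop) (h1 : P 1) (h2 : ∀ p q, P p → P q → P (p * q⁻¹)) : Subgroup Md :=
  Subgroup.ofDiv {p | P p} ⟨1, h1⟩ fun p hp q hq => h2 p q hp hq

/-- `Q8 ∘ Q8`, order 32 -/
def mQ : Subgroup Md := sub (fun p => 2 * (p.x + p.y) = 0) (by decide) (by decide +kernel)
/-- the normal `E8` -/
def mE : Subgroup Md := sub (fun p => p.i = false ∧ 2 * p.x = 0 ∧ 2 * p.y = 0) (by decide) (by decide +kernel)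
/-- the normal four-group -/
def mV : Subgroup Md := sub (fun p => p.i = false ∧ p.j = false ∧ 2 * p.x = 0 ∧ 2 * p.y = 0) (by decide) (by decide +kernel)
theorem mem_mQ {p : Md} : p ∈ mQ ↔ 2 * (p.x + p.y) = 0 := Iff.rfl
theorem mem_mE {p : Md} : p ∈ mE ↔ p.i = false ∧ 2 * p.x = 0 ∧ 2 * p.y = 0 := Iff.rfl
theorem mem_mV {p : Md} : p ∈ mV ↔ p.i = false ∧ p.j = false ∧ 2 * p.x = 0 ∧ 2 * p.y = 0 := Iff.rfl
instance instDecMQ12 : DecidablePred (· ∈ mQ) := fun _ => decidable_of_iff' _ mem_mQ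
instance instDecME12 : DecidablePred (· ∈ mE) := fun _ => decidable_of_iff' _ mem_mE
instance instDecMV12 : DecidablePred (· ∈ mV) := fun _ => decidable_of_iff' _ mem_mV

/-- the 19 involutions conjugate to `z` -/
abbrev zc (p : Md) : Prop := p ≠ 1 ∧ p * p = 1 ∧ p.i = false ∧ (2 * p.x = 0 ∨ 2 * p.y = 0)
/-- the 12 other involutions -/
abbrev wc (p : Md) : Prop := p ≠ 1 ∧ p * p = 1 ∧ ¬ zc p

variable {G : Type*} [Group G] [Finite G] {f : Md →* G} {S H R : Subgroup G} {a b g n : G} {p q : Md}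

structure Fm (f : Md →* G) : Prop where
  inj : Function.Injective f
  syl : SylowIn 2 f.range ⊤

structure Fz (f : Md →* G) : Prop extends Fm f where
  hz : ∀ p, zc p → IsConj (f p) (f mz)
  hw : ∀ p, wc p → ∃ g ∈ C1[f mz], g * f p * g⁻¹ = f mw
  nzw : ¬ IsConj (f mz) (f mw)
  out : ∀ g ∈ C1[f mz], g * f mu * g⁻¹ ∉ mQ.map f

/-- extremal conjugation -/
theorem ext (hR : SylowIn 2 R (H ⊓ C1[b])) (hS : IsPGroup 2 S) (hSH : S ≤ H) (hg : g ∈ H) (e : g * a * g⁻¹ = b) :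
    ∃ k ∈ H, k * a * k⁻¹ = b ∧ ∀ x ∈ S, x * a = a * x → k * x * k⁻¹ ∈ R := by
  have := Nat.fact_prime_two
  subst e
  obtain ⟨c, hc, e⟩ := Sylow_Jsub hR (Q := cj g (S ⊓ C1[a]))
    (le_inf (cj_le_of_mem hg (inf_le_left.trans hSH)) (by rw [C1_conj]; exact cj_mono g inf_le_right))
    ((hS.to_inf_left).map _)
  refine ⟨c * g, mul_mem hc.1 hg, ?_, fun x hx h => e (by rw [← cj_mul]; exact conj_mem_cj _ ⟨hx, mem_cent1.2 h⟩)⟩
  calc _ = c * (g * a * g⁻¹) * c⁻¹ := by group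
    _ = _ := by rw [mem_cent1.1 hc.2]; group

theorem sq_norm (hS : SylowIn 2 S R) (hH : S ≤ H) (hR : n ∈ R) (hn : n ∈ N[S]) (h2 : n * n ∈ H) : n ∈ H := by
  have := Nat.fact_prime_two
  have s := pHall_subl (le_inf hS.le (normG S)) inf_le_left hS
  obtain ⟨j, hj⟩ : Odd (S.relIndex (R ⊓ N[S])) := Nat.odd_iff.2 (Nat.two_dvd_ne_zero.1 s.not_dvd)
  have : (S.subgroupOf (R ⊓ N[S])).Normal := normal_subgroupOf_of_le_normalizer inf_le_right
  have : n ^ S.relIndex (R ⊓ N[S]) ∈ S := by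
    simpa [mem_subgroupOf, relIndex] using (S.subgroupOf (R ⊓ N[S])).pow_index_mem ⟨n, hR, hn⟩
  rw [hj, pow_succ, pow_mul, pow_two] at this
  exact (mul_mem_cancel_left (pow_mem h2 j)).1 (hH this)

theorem Fm.eq (h : Fm f) : f p = f q ↔ p = q := h.inj.eq_iff
theorem Fm.one (h : Fm f) : f p = 1 ↔ p = 1 := by rw [← h.eq, map_one]
theorem Fm.mem (h : Fm f) {K : Subgroup Md} : f p ∈ K.map f ↔ p ∈ K := mem_map_iff_mem h.inj
theorem Fm.card (h : Fm f) (K : Subgroup Md) : #(K.map f) = #K := card_map_of_injective h.inj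
theorem Fm.zS (_ : Fm f) : f.range ≤ C1[f mz] := by
  rintro _ ⟨p, rfl⟩
  rw [mem_cent1, ← map_mul, ← map_mul, show p * mz = mz * p by revert p; decide +kernel]
theorem Fm.sylH (h : Fm f) : SylowIn 2 f.range C1[f mz] := pHall_subl h.zS le_top h.syl

example : ∀ p : Md, p ∈ mQ → ∀ q ∈ mQ, p * q * p⁻¹ = q ∨ p * q * p⁻¹ = q * mz := by decide +kernel

end Cfsg.Agent.M12S
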