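import Cfsg.Agent.M12S.T4

/-! Sylow 2-subgroup of type `M12`: the action of `N(Q)` on `Q/⟨z⟩` (helper12). -/

set_option autoImplicit false
set_option linter.unusedSectionVars false
set_option synthInstance.maxSize 100000
set_option synthInstance.maxHeartbeats 400000

namespace Cfsg.Agent.M12S

open Cfsg.Agent.BG Subgroup
open Cfsg.Agent.HJS (cmul cinj)

/-- equality modulo `z` -/
abbrev ap (x y : Md) : Prop := x = y ∨ x = y * mz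

theorem ap_symm : ∀ {x y : Md}, ap x y → ap y x := by decide +kernel
theorem ap_trans : ∀ {x y : Md}, ap x y → ∀ {w}, ap y w → ap x w := by decide +kernel
theorem ap_comm : ∀ {x y : Md}, ap x y → ∀ w, (x * w = w * x ↔ y * w = w * y) := by decide +kernel
theorem ap_mul {x y x' y' : Md} (h : ap x y) (h' : ap x' y') : ap (x * x') (y * y') := by
  rcases h with rfl | rfl <;> rcases h' with rfl | rfl
  · exact .inl rfl
  · exact .inr (mul_assoc _ _ _).symm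
  · exact .inr (by rw [mul_assoc, ← (t4a _).1, mul_assoc])
  · exact .inl (by rw [mul_assoc, ← mul_assoc mz, ← (t4a _).1, mul_assoc, show mz * mz = 1 by decide, mul_one])
theorem b1 : ∀ p ∈ mQ, p ≠ 1 → p ≠ mz → ∃ e ∈ mE, ¬ ap e 1 ∧ e * p = p * e ∧ (e = p ∨
    ∀ e' ∈ mE, ¬ ap e' 1 → e' * p = p * e' → ap e' e) := by decide +kernel
theorem b2 : ∀ e ∈ mE, ¬ ap e 1 → ∀ x ∈ mE, ¬ ap x 1 → ¬ ap x e → ∀ y ∈ mE, ¬ ap y 1 → ¬ ap y e →
    ∀ w ∈ mE, ¬ ap w 1 → ¬ ap w e → ap x y ∨ ap y w ∨ ap x w := by decide +kernel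
theorem b3 : ∀ x ∈ mQ, x * x = mz → ∀ y ∈ mQ, y * y = mz → (y * ma = ma * y ↔ x * ma = ma * x) →
    (y * mt = mt * y ↔ x * mt = mt * x) → ∀ w ∈ mQ, w * w = mz → (w * ma = ma * w ↔ x * ma = ma * x) →
    (w * mt = mt * w ↔ x * mt = mt * x) → ap x y ∨ ap y w ∨ ap x w := by decide +kernel
theorem b4 : ∀ q ∈ mQ, q * q = mz ∨ ∃ x ∈ mQ, x * x = mz ∧ x⁻¹ * q * (x⁻¹ * q) = mz := by decide +kernel
theorem b5 : ∀ p ∈ mQ, ∀ q ∈ mQ, ap (p * q * p⁻¹) q := by decide +kernel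

variable {G : Type*} [Group G] [Finite G] {f : Md →* G}

namespace Fm
variable (F : Fm f) {m : G} {x y x' y' : Md}
include F

theorem tr_mul (h : m * f x * m⁻¹ = f y) (h' : m * f x' * m⁻¹ = f y') : m * f (x * x') * m⁻¹ = f (y * y') := by
  rw [map_mul, cmul, h, h', map_mul]
theorem tr_eq (h : m * f x * m⁻¹ = f y) (h' : m * f x' * m⁻¹ = f y') : y = y' ↔ x = x' := by
  rw [← F.eq, ← h, ← h', cinj, F.eq]
theorem tr_ap (hm : m ∈ C1[f mz]) (h : m * f x * m⁻¹ = f y) (h' : m * f x' * m⁻¹ = f y') : ap y y' ↔ ap x x' :=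
  or_congr (F.tr_eq h h') (F.tr_eq h (F.tr_mul h' (mul_inv_eq_iff_eq_mul.2 (mem_cent1.1 hm))))
theorem tr_comp {m' : G} {w : Md} (h : m * f x * m⁻¹ = f y) (h' : m' * f y * m'⁻¹ = f w) :
    m' * m * f x * (m' * m)⁻¹ = f w := by rw [← h', ← h]; group

theorem two (hm : m ∈ C1[f mz]) (P : Md → Prop) (hP : ∀ x, P x → ∃ y, P y ∧ m * f x * m⁻¹ = f y)
    (h2 : ∀ x, P x → ∀ y, P y → ∀ w, P w → ap x y ∨ ap y w ∨ ap x w) (hx : P x) :
    ∃ w, ap w x ∧ m * m * f x * (m * m)⁻¹ = f w := by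
  obtain ⟨y, hy, e⟩ := hP x hx
  obtain ⟨w, hw, e'⟩ := hP y hy
  refine ⟨w, ap_symm ?_, F.tr_comp e e'⟩
  rcases h2 x hx y hy w hw with h | h | h
  · exact ap_trans h ((F.tr_ap hm e e').2 h)
  · exact ap_trans ((F.tr_ap hm e e').1 h) h
  · exact h

/-- the elements of `C(z)` acting trivially on `Q/⟨z⟩` -/
def triv : Subgroup G where
  carrier := {m | m ∈ C1[f mz] ∧ ∀ q ∈ mQ, ∃ w, ap w q ∧ m * f q * m⁻¹ = f w}
  one_mem' := ⟨one_mem _, fun q _ => ⟨q, .inl rfl, by simp⟩⟩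
  mul_mem' := fun {a b} ha hb => ⟨mul_mem ha.1 hb.1, fun q hq => by
    obtain ⟨w, h1, e⟩ := hb.2 q hq
    obtain ⟨w', h2, e'⟩ := ha.2 w (h1.elim (· ▸ hq) (· ▸ mul_mem hq (by decide)))
    exact ⟨w', ap_trans h2 h1, F.tr_comp e e'⟩⟩
  inv_mem' := fun {a} ha => ⟨inv_mem ha.1, fun q hq => by
    obtain ⟨w, rfl | rfl, e⟩ := ha.2 q hq
    · exact ⟨w, .inl rfl, (congrArg (fun x => a⁻¹ * x * a⁻¹⁻¹) e.symm).trans (by group)⟩
    · have := F.tr_mul e (mul_inv_eq_iff_eq_mul.2 (mem_cent1.1 ha.1))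
      rw [mul_assoc q, show mz * mz = 1 by decide, mul_one] at this
      exact ⟨q * mz, .inr rfl, by rw [← this]; group⟩⟩

end Fm

theorem Fz.aut (F : Fz f) {K : Subgroup G} {n : G} {p : Md} (hK : SylowIn 2 (mQ.map f) K) (KH : K ≤ C1[f mz]) (hn : n ∈ K)
    (hN : n ∈ N[mQ.map f]) (hp : p ∈ mQ) (p1 : p ≠ 1) (pz : p ≠ mz)
    (e : n * f p * n⁻¹ = f p ∨ n * f p * n⁻¹ = f p * f mz) :
    ∀ q ∈ mQ, n * f q * n⁻¹ = f q ∨ n * f q * n⁻¹ = f q * f mz := by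
  have nH := KH hn
  have n1 : ∀ m : G, m * f 1 * m⁻¹ = f 1 := by simp
  obtain ⟨p', hp', e⟩ : ∃ p', ap p' p ∧ n * f p * n⁻¹ = f p' :=
    e.elim (fun e => ⟨_, .inl rfl, e⟩) fun e => ⟨_, .inr rfl, by rw [e, map_mul]⟩
  have tE : ∀ x ∈ mE, ∃ y ∈ mE, n * f x * n⁻¹ = f y := fun x hx =>
    (conj_mem_of_norm (F.NQE hN) (mem_map_of_mem f hx)).imp fun _ h => ⟨h.1, h.2.symm⟩
  obtain ⟨e0, h0, h1, h2, h3⟩ := b1 p hp p1 pz
  obtain ⟨e1, h4, h5⟩ := tE e0 h0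
  have h6 : ap e1 e0 := by
    rcases h3 with rfl | h3
    · rwa [F.eq.1 (h5.symm.trans e)]
    · exact h3 e1 h4 (_root_.mt (F.tr_ap nH h5 (n1 n)).1 h1) ((ap_comm hp' e1).1
        ((F.tr_eq (F.tr_mul e h5) (F.tr_mul h5 e)).2 h2.symm)).symm
  have s2 : ∀ x ∈ mE, ∃ w, ap w x ∧ n * n * f x * (n * n)⁻¹ = f w := fun x hx => by
    obtain ⟨y, hy, ey⟩ := tE x hx
    obtain ⟨w, hw, ew⟩ := tE y hy
    by_cases c1 : ap x 1
    · exact ⟨w, ap_trans ((F.tr_ap nH ew (n1 n)).2 ((F.tr_ap nH ey (n1 n)).2 c1)) (ap_symm c1), F.tr_comp ey ew⟩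
    by_cases c2 : ap x e0
    · exact ⟨w, ap_trans (ap_trans ((F.tr_ap nH ew h5).2 (ap_trans ((F.tr_ap nH ey h5).2 c2) h6)) h6) (ap_symm c2),
        F.tr_comp ey ew⟩
    exact F.two nH (fun x => x ∈ mE ∧ ¬ ap x 1 ∧ ¬ ap x e0) (fun x hx => by
      obtain ⟨y, hy, ey⟩ := tE x hx.1
      exact ⟨y, ⟨hy, _root_.mt (F.tr_ap nH ey (n1 n)).1 hx.2.1,
        fun c => hx.2.2 ((F.tr_ap nH ey h5).1 (ap_trans c (ap_symm h6)))⟩, ey⟩)
      (fun x hx y hy w hw => b2 e0 h0 h1 x hx.1 hx.2.1 hx.2.2 y hy.1 hy.2.1 hy.2.2 w hw.1 hw.2.1 hw.2.2) ⟨hx, c1, c2⟩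
  have mH := mul_mem nH nH
  have s4 : ∀ q ∈ mQ, q * q = mz → ∃ w, ap w q ∧ n * n * (n * n) * f q * (n * n * (n * n))⁻¹ = f w := fun q hq q2 => by
    obtain ⟨a, a1, a2⟩ := s2 ma (by decide)
    obtain ⟨t, t1, t2⟩ := s2 mt (by decide)
    refine F.two mH (fun y => y ∈ mQ ∧ y * y = mz ∧ (y * ma = ma * y ↔ q * ma = ma * q) ∧
      (y * mt = mt * y ↔ q * mt = mt * q)) (fun x hx => ?_) (fun x hx y hy w hw => b3 x hx.1 hx.2.1 y hy.1 hy.2.1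
        (hy.2.2.1.trans hx.2.2.1.symm) (hy.2.2.2.trans hx.2.2.2.symm) w hw.1 hw.2.1
        (hw.2.2.1.trans hx.2.2.1.symm) (hw.2.2.2.trans hx.2.2.2.symm)) ⟨hq, q2, .rfl, .rfl⟩
    obtain ⟨y, hy, ey⟩ := conj_mem_of_norm (mul_mem hN hN) (mem_map_of_mem f hx.1)
    replace ey := ey.symm
    refine ⟨y, ⟨hy, (F.tr_eq (F.tr_mul ey ey) (mul_inv_eq_iff_eq_mul.2 (mem_cent1.1 mH))).2 hx.2.1,
      Iff.trans ?_ hx.2.2.1, Iff.trans ?_ hx.2.2.2⟩, ey⟩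
    · rw [eq_comm, ← ap_comm a1, eq_comm]; exact F.tr_eq (F.tr_mul ey a2) (F.tr_mul a2 ey)
    · rw [eq_comm, ← ap_comm t1, eq_comm]; exact F.tr_eq (F.tr_mul ey t2) (F.tr_mul t2 ey)
  have QD : mQ.map f ≤ F.triv := by
    rintro - ⟨k, hk, rfl⟩
    exact ⟨F.zS ⟨k, rfl⟩, fun q hq => ⟨_, b5 k hk q hq, by simp⟩⟩
  have hD : n ∈ F.triv := sq_norm hK QD hn hN (sq_norm hK QD (mul_mem hn hn) (mul_mem hN hN)
    ⟨mul_mem mH mH, fun q hq => by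
      rcases b4 q hq with h | ⟨x, hx, x2, h⟩
      · exact s4 q hq h
      · obtain ⟨w, w1, w2⟩ := s4 x hx x2
        obtain ⟨w', w3, w4⟩ := s4 _ (mul_mem (inv_mem hx) hq) h
        have h7 := ap_mul w1 w3
        have h8 := F.tr_mul w2 w4
        rw [mul_inv_cancel_left] at h7 h8
        exact ⟨_, h7, h8⟩⟩)
  intro q hq
  obtain ⟨w, rfl | rfl, e⟩ := hD.2 q hq
  · exact .inl e
  · exact .inr (by rw [e, map_mul])

/-- the core is trivial, from the index two subgroup `K`. -/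
theorem Fz.core' [IsSimpleGroup G] (F : Fz f) (hH : C1[f mz] ≤ Op' 2 C1[f mz] ⊔ N[mQ.map f]) {K : Subgroup G}
    (KH : K ≤ C1[f mz]) (hi : K.relIndex C1[f mz] = 2) (hK : SylowIn 2 (mQ.map f) K) : Op' 2 C1[f mz] = ⊥ :=
  F.core hH fun n hn p hp p1 pz e => by
    have h1 := F.aut hK KH ((Invol.mul_mem_iff_of_relIndex_two hi (F.NQH hn) (F.NQH hn)).2 .rfl) (mul_mem hn hn) hp p1 pz
      (.inl (mul_inv_eq_iff_eq_mul.2 (by rw [mul_assoc, e, ← mul_assoc, e, mul_assoc])))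
    rintro - ⟨q, hq, rfl⟩
    rw [show n ^ 4 = n * n * (n * n) by simp [pow_succ, mul_assoc], eq_comm, ← mul_inv_eq_iff_eq_mul]
    have hz := mul_inv_eq_iff_eq_mul.2 (mem_cent1.1 (F.NQH (mul_mem hn hn)))
    rcases h1 q hq with h | h
    · exact F.tr_comp h h
    · have h2 := F.tr_mul (h.trans (map_mul f _ _).symm) hz
      rw [mul_assoc q, show mz * mz = 1 by decide, mul_one] at h2
      exact F.tr_comp (h.trans (map_mul f _ _).symm) h2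

end Cfsg.Agent.M12S
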