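import Cfsg.Agent.M12S.A
import Cfsg.Agent.M12R.Main

/-! A group whose Sylow 2-subgroup is that of `M12` has a frame: `exists_fm` (also `mkHom`, `m12_hom`). -/

set_option autoImplicit false
set_option maxRecDepth 100000

namespace Cfsg.Agent.M12S

open Cfsg.Agent.BG Subgroup

variable {G : Type*} [Group G]

theorem pw_add {p : G} (h : p ^ 4 = 1) (x y : ZMod 4) : p ^ (x + y).val = p ^ x.val * p ^ y.val := by
  rw [ZMod.val_add, ← pow_add, ← pow_eq_pow_mod _ h]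

theorem pw_neg {p : G} (h : p ^ 4 = 1) (x : ZMod 4) : p ^ (-x).val = p⁻¹ ^ x.val := by
  rw [inv_pow, eq_inv_iff_mul_eq_one, ← pw_add h, neg_add_cancel]; simp

/-- The homomorphism from the model given by generators satisfying the relations. -/
theorem mkHom {p q w t : G} (p4 : p ^ 4 = 1) (q4 : q ^ 4 = 1) (pq : Commute p q) (wp : w * p = q * w)
    (wq : w * q = p * w) (tp : t * p = p⁻¹ * t) (tq : t * q = q⁻¹ * t) (ww : w * w = 1) (tt : t * t = 1)
    (wt : w * t = t * w) : ∃ f : Md →* G, f mz = p * p * (q * q) := by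
  have a1 : ∀ n : ℕ, w * p ^ n = q ^ n * w := fun n => (SemiconjBy.pow_right wp n).eq
  have a2 : ∀ n : ℕ, w * q ^ n = p ^ n * w := fun n => (SemiconjBy.pow_right wq n).eq
  have a3 : ∀ x : ZMod 4, t * p ^ x.val = p ^ (-x).val * t := fun x => by
    rw [pw_neg p4]; exact (SemiconjBy.pow_right tp _).eq
  have a4 : ∀ x : ZMod 4, t * q ^ x.val = q ^ (-x).val * t := fun x => by
    rw [pw_neg q4]; exact (SemiconjBy.pow_right tq _).eq
  have c : ∀ m n : ℕ, q ^ m * p ^ n = p ^ n * q ^ m := fun m n => (pq.pow_pow n m).eq.symm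
  have b1 : ∀ (n : ℕ) g, w * (p ^ n * g) = q ^ n * (w * g) := fun n g => by rw [← mul_assoc, a1, mul_assoc]
  have b2 : ∀ (n : ℕ) g, w * (q ^ n * g) = p ^ n * (w * g) := fun n g => by rw [← mul_assoc, a2, mul_assoc]
  have b3 : ∀ (x : ZMod 4) g, t * (p ^ x.val * g) = p ^ (-x).val * (t * g) := fun n g => by
    rw [← mul_assoc, a3, mul_assoc]
  have b4 : ∀ (x : ZMod 4) g, t * (q ^ x.val * g) = q ^ (-x).val * (t * g) := fun n g => by
    rw [← mul_assoc, a4, mul_assoc]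
  have c' : ∀ (m n : ℕ) g, q ^ m * (p ^ n * g) = p ^ n * (q ^ m * g) := fun m n g => by rw [← mul_assoc, c, mul_assoc]
  have w2 : ∀ g, w * (w * g) = g := fun g => by rw [← mul_assoc, ww, one_mul]
  have t2 : ∀ g, t * (t * g) = g := fun g => by rw [← mul_assoc, tt, one_mul]
  have tw : ∀ g, t * (w * g) = w * (t * g) := fun g => by rw [← mul_assoc, ← wt, mul_assoc]
  refine ⟨MonoidHom.mk' (fun m => p ^ m.x.val * (q ^ m.y.val * ((if m.i then w else 1) * ((if m.j then t else 1) * 1)))) ?_,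
    ?_⟩
  · rintro ⟨x, y, i, j⟩ ⟨x', y', i', j'⟩
    change p ^ (x + sg j (if i then y' else x')).val * (q ^ (y + sg j (if i then x' else y')).val *
      ((if xor i i' then w else 1) * ((if xor j j' then t else 1) * 1))) = _
    rw [pw_add p4, pw_add q4]
    cases i <;> cases j <;> cases i' <;> cases j' <;>
      simp only [sg, Bool.xor_false, Bool.xor_true, Bool.not_true, Bool.not_false, Bool.false_eq_true, if_false, if_true,
        one_mul, mul_assoc, b1, b2, b3, b4, c', w2, t2, tw]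
  · change p ^ 2 * (q ^ 2 * (1 * (1 * 1))) = _
    simp [pow_two]

open M12R.F in
/-- the relations checked by reflection -/
abbrev relFm : HJ.Fm := (t * b * d) * (t * b * d) * (t * b * d) * (t * b * d) ≐ 1 ⋏
  (D * B * t * A) * (D * B * t * A) * (D * B * t * A) * (D * B * t * A) ≐ 1 ⋏
  (t * b * d) * (D * B * t * A) ≐ (D * B * t * A) * (t * b * d) ⋏
  (t * b * d) * (b * c * d) * (t * b * d) ≐ b * c * d ⋏
  (D * B * t * A) * (b * c * d) * (D * B * t * A) ≐ b * c * d ⋏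
  (t * b * d) * (t * b * d) * ((D * B * t * A) * (D * B * t * A)) ≐ z

theorem m12_hom : ∃ f : Md →* Cfsg.Spor.M12, Function.Injective f := by
  obtain ⟨a, b, c, d, x, t, z, L⟩ := M12R.exists_loc12
  have H : ((t * b * d) * (t * b * d) * (t * b * d) * (t * b * d) = 1) ∧
      ((d⁻¹ * b⁻¹ * t * a⁻¹) * (d⁻¹ * b⁻¹ * t * a⁻¹) * (d⁻¹ * b⁻¹ * t * a⁻¹) * (d⁻¹ * b⁻¹ * t * a⁻¹) = 1) ∧
      (t * b * d) * (d⁻¹ * b⁻¹ * t * a⁻¹) = (d⁻¹ * b⁻¹ * t * a⁻¹) * (t * b * d) ∧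
      (t * b * d) * (b * c * d) * (t * b * d) = b * c * d ∧
      (d⁻¹ * b⁻¹ * t * a⁻¹) * (b * c * d) * (d⁻¹ * b⁻¹ * t * a⁻¹) = b * c * d ∧
      (t * b * d) * (t * b * d) * ((d⁻¹ * b⁻¹ * t * a⁻¹) * (d⁻¹ * b⁻¹ * t * a⁻¹)) = z :=
    L.dec relFm (by decide +kernel)
  obtain ⟨h1, h2, h3, h4, h5, h6⟩ := H
  obtain ⟨-, -, -, -, e1, e2, e3, -⟩ := L.eq1
  obtain ⟨f, hf⟩ := mkHom (p := t * b * d) (q := d⁻¹ * b⁻¹ * t * a⁻¹) (w := a * d) (t := b * c * d)
    (by rw [← h1]; simp only [pow_succ, pow_zero, one_mul]) (by rw [← h2]; simp only [pow_succ, pow_zero, one_mul]) h3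
    e1 e2 (by rw [eq_inv_mul_iff_mul_eq, ← mul_assoc, h4]) (by rw [eq_inv_mul_iff_mul_eq, ← mul_assoc, h5]) L.ee L.ww e3
  refine ⟨f, (injective_iff_map_eq_one f).2 fun m hm => by_contra fun m1 => L.z1 ?_⟩
  rw [← h6, ← hf]
  have key : ∀ m : Md, m ≠ 1 → m = mz ∨ (∃ g : Md, g * m * g⁻¹ * m⁻¹ = mz) ∨
      ∃ g h : Md, h * (g * m * g⁻¹ * m⁻¹) * h⁻¹ * (g * m * g⁻¹ * m⁻¹)⁻¹ = mz := by decide +kernel
  rcases key m m1 with e | ⟨g, e⟩ | ⟨g, h, e⟩ <;> rw [← e] <;> simp [hm]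

theorem exists_fm [Finite G] (S : Sylow 2 G) (P : Sylow 2 ↥Cfsg.Spor.M12) (e : S ≃* P) : ∃ f : Md →* G, Fm f := by
  have := Nat.fact_prime_two
  obtain ⟨f, hf⟩ := m12_hom
  have c1 : Nat.card f.range = 64 := by
    rw [← card_Md]; exact (Nat.card_congr (MonoidHom.ofInjective hf).toEquiv).symm
  have c2 : Nat.card f.range = 2 ^ (Nat.card Cfsg.Spor.M12).factorization 2 := by
    rw [c1, Golay.card_M12, show 95040 = 2 ^ 6 * 1485 by norm_num, Nat.factorization_mul (by norm_num) (by norm_num),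
      Nat.prime_two.factorization_pow]
    simp [Nat.factorization_eq_zero_of_not_dvd (show ¬ 2 ∣ 1485 by norm_num)]
  let R : Sylow 2 Cfsg.Spor.M12 := Sylow.ofCard f.range c2
  let φ : Md ≃* S := (MonoidHom.ofInjective hf).trans ((Sylow.equiv R P).trans e.symm)
  refine ⟨(S : Subgroup G).subtype.comp φ.toMonoidHom, Subtype.val_injective.comp φ.injective, ?_⟩
  rw [MonoidHom.range_comp, MonoidHom.range_eq_top.2 φ.surjective, ← MonoidHom.range_eq_map, range_subtype]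
  exact sylowIn_top S

end Cfsg.Agent.M12S
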