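import Cfsg.Agent.M12S.A
import Cfsg.Agent.S1169

/-! Fusion of involutions in a simple group with Sylow 2-subgroups of type `M12` and two classes of involutions. -/

set_option autoImplicit false
set_option linter.unusedSectionVars false

namespace Cfsg.Agent.M12S

open Cfsg.Agent.BG Cfsg.Agent.CIT Subgroup

variable {G : Type*} [Group G] [Finite G] {f : Md →* G} {S H R : Subgroup G} {a b g k n u : G} {p q p' q' : Md}

abbrev cM (p q : Md) : Prop := ∃ s, s * p * s⁻¹ = q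
theorem cM.c (f : Md →* G) (h : cM p q) : IsConj (f p) (f q) := f.map_isConj (isConj_iff.2 h)

def Cj (f : Md →* G) (g : G) (p q : Md) : Prop := g * f p * g⁻¹ = f q
theorem Cj.c (e : Cj f g p q) : IsConj (f p) (f q) := isConj_iff.2 ⟨g, e⟩
theorem Cj.mul (e : Cj f g p q) (e' : Cj f g p' q') : Cj f g (p * p') (q * q') := by
  rw [Cj, map_mul, map_mul, ← e, ← e', conj_mul]
theorem Cj.inv (e : Cj f g p q) : Cj f g⁻¹ q p := by rw [Cj, ← e]; group
theorem Cj.trans (e : Cj f g p q) (e' : Cj f k q q') : Cj f (k * g) p q' := by rw [Cj, ← e', ← e]; group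
theorem Cj.of (f : Md →* G) (s p : Md) : Cj f (f s) p (s * p * s⁻¹) := by simp [Cj]
theorem Cj.one (f : Md →* G) (g : G) : Cj f g 1 1 := by simp [Cj]
theorem Cj.cen : Cj f g p p ↔ g ∈ C1[f p] := by rw [mem_cent1, Cj, mul_inv_eq_iff_eq_mul]

def mD : Subgroup Md := sub (fun p => p.i = false) (by decide) (by decide +kernel)
theorem mem_mD : p ∈ mD ↔ p.i = false := Iff.rfl
def mF (b : Bool) : Subgroup Md := sub (fun p => p.i = false ∧ 2 * p.x = (if p.j ∧ b then 2 else 0) ∧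
  2 * p.y = (if p.j ∧ !b then 2 else 0)) (by cases b <;> decide) (by cases b <;> decide +kernel)
theorem mem_mF {b : Bool} : p ∈ mF b ↔ p.i = false ∧ 2 * p.x = (if p.j ∧ b then 2 else 0) ∧
  2 * p.y = (if p.j ∧ !b then 2 else 0) := Iff.rfl
instance instDecMD12 : DecidablePred (· ∈ mD) := fun _ => decidable_of_iff' _ mem_mD
instance instDecMF12 (b : Bool) : DecidablePred (· ∈ mF b) := fun _ => decidable_of_iff' _ mem_mF
def my : Md := ⟨1, 1, false, false⟩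

namespace Fm
variable (h : Fm f)
include h

theorem uq (e : Cj f g p q) (e' : Cj f g p q') : q = q' := h.inj (e.symm.trans e')
theorem uq' (e : Cj f g p q) (e' : Cj f g p' q) : p = p' := h.uq e.inv e'.inv
theorem sq (e : Cj f g p q) (p2 : p * p = 1) : q * q = 1 := h.uq (e.mul e) (p2 ▸ Cj.one f g)
theorem ne1 (e : Cj f g p q) (p1 : p ≠ 1) : q ≠ 1 := fun c => p1 (h.uq' e (c ▸ Cj.one f g))
theorem cm (e : Cj f g p q) (e' : Cj f g p' q') (c : p * p' = p' * p) : q * q' = q' * q :=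
  h.uq (e.mul e') (c ▸ e'.mul e)

theorem ex (hR : SylowIn 2 R (H ⊓ C1[f q])) (RS : R ≤ f.range) (SH : f.range ≤ H) (hg : g ∈ H) (e : Cj f g p q) :
    ∃ k ∈ H, Cj f k p q ∧ ∀ r, r * p = p * r → ∃ r', Cj f k r r' := by
  obtain ⟨k, hk, e1, e2⟩ := ext hR h.syl.pg SH hg e
  exact ⟨k, hk, e1, fun r hr => (RS (e2 _ ⟨r, rfl⟩ (by rw [← map_mul, hr, map_mul]))).imp fun _ => Eq.symm⟩

theorem exz (c : IsConj (f p) (f mz)) : ∃ k, Cj f k p mz ∧ ∀ r, r * p = p * r → ∃ r', Cj f k r r' :=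
  let ⟨g, e⟩ := isConj_iff.1 c
  (h.ex (H := ⊤) (by simpa using h.sylH) le_rfl le_top (mem_top g) e).imp fun _ => And.right

theorem into (hu : orderOf u = 2) : ∃ p, p * p = 1 ∧ p ≠ 1 ∧ IsConj u (f p) := by
  have := Nat.fact_prime_two
  obtain ⟨k, -, hk⟩ := Sylow_Jsub h.syl le_top (two_of_sq (sq_of_ord hu)).zpowers
  obtain ⟨p, e⟩ := hk (conj_mem_cj k (mem_zpowers u))
  have o : orderOf (f p) = 2 := by rw [e, orderOf_conj', hu]
  exact ⟨p, h.one.1 (by rw [map_mul, sq_of_ord o]), _root_.mt h.one.2 (ne_one_of_ord o), isConj_iff.2 ⟨k, e.symm⟩⟩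

theorem o2 (p2 : p * p = 1) (p1 : p ≠ 1) : orderOf (f p) = 2 :=
  Invol.orderOf_two_iff.2 ⟨by rw [← map_mul, p2, map_one], _root_.mt h.one.1 p1⟩

variable [IsSimpleGroup G]

theorem ns : ¬ Group.IsSolvable (⊤ : Subgroup G) := fun e => by
  have := IsSimpleGroup.comm_iff_isSolvable.2
    (Group.isSolvable_of_surjective (f := (⊤ : Subgroup G).subtype) fun g => ⟨⟨g, trivial⟩, rfl⟩) (f ma) (f mw)
  rw [← map_mul, ← map_mul, h.eq] at this
  revert this; decide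

theorem tt (P : Md → Prop) [DecidablePred P] (h1 : P 1) (h2 : ∀ p q, P p → P q → P (p * q⁻¹))
    (h3 : ∃ a, ∀ b, Xor (P (b * a)) (P b)) (p2 : p * p = 1) (p1 : p ≠ 1) :
    ∃ q, P q ∧ q * q = 1 ∧ q ≠ 1 ∧ IsConj (f p) (f q) := by
  obtain ⟨T, hT⟩ := sylow_of_sylowIn_top h.syl
  obtain ⟨g, -, q, hq, e⟩ := Invol.thompson_transfer (fun H e => by
      rcases IsSimpleGroup.eq_bot_or_eq_top_of_normal H (normal_of_index_eq_two e) with rfl | rfl
      · exact h.ns (abelian_sol (cyclic_abelian (prime_cyclic (by rw [card_top, ← index_bot, e]; exact Nat.prime_two))))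
      · simp at e) T (Q := (sub P h1 h2).map f) (by
      rw [hT, MonoidHom.range_eq_map, relIndex_map_map_of_injective _ _ h.inj, relIndex_top_right]
      exact index_eq_two_iff.2 h3) (u := f p) (by rw [← map_mul, p2, map_one]) (hT ▸ ⟨p, rfl⟩)
  exact ⟨q, hq, h.sq e.symm p2, h.ne1 e.symm p1, Cj.c e.symm⟩

theorem za : IsConj (f ma) (f mz) := by
  by_contra n
  refine Gold.zstar h.ns h.syl ⟨mz, rfl⟩ (by rw [← map_mul, h.one]; decide) (_root_.mt h.one.1 (by decide))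
    fun g ⟨p, e⟩ => by_contra fun nz => n ?_
  have e : Cj f g mz p := e.symm
  have pz : p ≠ mz := fun c => nz (c ▸ e)
  obtain ⟨k, k1, k2⟩ := h.exz e.c.symm
  rcases (by decide +kernel : ∀ p : Md, p * p = 1 → p ≠ 1 → p ≠ mz → cM ma p ∨ (∃ y, y * p = p * y ∧ y * y = mz) ∨
    (ma * p = p * ma ∧ cM (ma * p) p)) p (h.sq e (by decide)) (h.ne1 e (by decide)) pz with c | ⟨y, c1, c2⟩ | ⟨c1, c2⟩
  · exact (c.c f).trans k1.c
  · obtain ⟨y', e1⟩ := k2 y c1
    have e2 := c2 ▸ e1.mul e1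
    exact (cM.c f ((by decide +kernel : ∀ y : Md, y * y ≠ 1 → y * y * (y * y) = 1 → y * y ≠ mz → cM ma (y * y)) y'
      (h.ne1 e2 (by decide)) (h.sq e2 (by decide)) fun c => pz (h.uq' k1 (c ▸ e2)))).trans e2.c.symm
  · obtain ⟨a', e1⟩ := k2 ma c1
    by_cases c : a' = mz
    · exact c ▸ e1.c
    exact (e1.c.trans (cM.c f ((by decide +kernel : ∀ p : Md, p * p = 1 → p ≠ 1 → p ≠ mz → cM p (p * mz)) a'
      (h.sq e1 (by decide)) (h.ne1 e1 (by decide)) c))).trans ((e1.mul k1).c.symm.trans ((c2.c f).trans k1.c))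

theorem zV (hp : p ∈ mV) (p1 : p ≠ 1) : IsConj (f p) (f mz) := by
  rcases (by decide +kernel : ∀ p ∈ mV, p ≠ 1 → p = mz ∨ cM p ma) p hp p1 with rfl | c
  exacts [.refl _, (c.c f).trans h.za]

theorem zw (p2 : p * p = 1) (p1 : p ≠ 1) : IsConj (f p) (f mz) ∨ IsConj (f p) (f mw) := by
  obtain ⟨q, q1, q2, q3, c⟩ := h.tt (fun p => p.j = false) rfl (by decide +kernel) (by decide +kernel) p2 p1
  exact ((by decide +kernel : ∀ q : Md, q.j = false → q * q = 1 → q ∈ mV ∨ cM q mw) q q1 q2).imp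
    (fun e => c.trans (h.zV e q3)) fun e => c.trans (e.c f)

theorem rk : ∃ k, Cj f k ma mz ∧ ∀ p ∈ mD, ∃ q ∈ mD, Cj f k p q := by
  obtain ⟨k, k1, k2⟩ := h.exz h.za
  obtain ⟨y, e1⟩ := k2 my (by decide)
  have e2 : Cj f k mz (y * y) := e1.mul e1
  refine ⟨k, k1, fun p hp => ?_⟩
  obtain ⟨q, e⟩ := k2 p (by revert p; decide +kernel)
  exact ⟨q, (by decide +kernel : ∀ y : Md, y * y ≠ 1 → y * y * (y * y) = 1 → y * y ≠ mz → ∀ q, q * (y * y) = y * y * q → q ∈ mD)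
    y (h.ne1 e2 (by decide)) (h.sq e2 (by decide)) (fun c => absurd (h.uq' k1 (c ▸ e2)) (by decide)) q
    (h.cm e e2 ((by decide +kernel : ∀ p, p * mz = mz * p) p)), e⟩

variable (h2 : ∃ x y : G, orderOf x = 2 ∧ orderOf y = 2 ∧ ¬ IsConj x y)
include h2

theorem nzw : ¬ IsConj (f mz) (f mw) := fun c => by
  have : ∀ x : G, orderOf x = 2 → IsConj x (f mz) := fun x hx => by
    obtain ⟨p, p2, p1, e⟩ := h.into hx
    exact e.trans ((h.zw p2 p1).elim id (·.trans c.symm))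
  obtain ⟨x, y, hx, hy, n⟩ := h2
  exact n ((this x hx).trans (this y hy).symm)

theorem gold (K : Subgroup Md) (hz : mz ∈ K) (h1 : ∀ p ∈ K, p * p = 1) (h3 : ∀ p ∈ K, p ≠ 1 → IsConj (f p) (f mz))
    (h4 : ∀ p, p * p = 1 → IsConj (f p) (f mz) → p ∈ K) : False := by
  obtain ⟨T, hT⟩ := sylow_of_sylowIn_top h.syl
  have ea : EA (K.map f) := by rintro _ ⟨p, hp, rfl⟩; rw [← map_mul, h1 p hp, map_one]
  rcases S1169.result T (K.map f) (fun e => _root_.mt h.one.1 (by decide : mz ≠ 1) (mem_bot.1 (e ▸ mem_map_of_mem f hz)))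
    (abelian_iff.2 ea.cent) ⟨hT ▸ map_le_range f K, by
      rintro _ ⟨p, hp, rfl⟩ g hg
      obtain ⟨q, e⟩ : g * f p * g⁻¹ ∈ f.range := hT ▸ hg
      by_cases p1 : p = 1
      · simp [p1]
      exact ⟨q, h4 q (h.sq e.symm (h1 p hp)) ((Cj.c e.symm).symm.trans (h3 p hp p1)), e⟩⟩ with e | ⟨M, e⟩
  · have := congrArg Subtype.val (e.is_comm.comm ⟨f ma, hT ▸ ⟨ma, rfl⟩⟩ ⟨f mw, hT ▸ ⟨mw, rfl⟩⟩)
    simp only [coe_mul, ← map_mul, h.eq] at this
    revert this; decide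
  · exact h.nzw h2 (Invol.SE.isConj e (h.o2 (by decide) (by decide)) (h.o2 (by decide) (by decide)))

/-- the classes: `T0 = mt V`, `T1 = my mt V`, `T2` -/
theorem cls : IsConj (f (mw * mt)) (f mw) ∧ IsConj (f mu) (f mz) ∧
    (IsConj (f mt) (f mz) ∧ IsConj (f (my * mt)) (f mw) ∨ IsConj (f (my * mt)) (f mz) ∧ IsConj (f mt) (f mw)) := by
  have n := h.nzw h2
  have nn : ∀ {p}, IsConj (f p) (f mz) → IsConj (f p) (f mw) → False := fun a b => n (a.symm.trans b)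
  have c1 : IsConj (f (mw * mt)) (f mw) := by
    obtain ⟨q, q1, q2, q3, c⟩ := h.tt (fun p => p.i = p.j) rfl (by decide +kernel) (by decide +kernel)
      (p := mw) (by decide) (by decide)
    rcases (by decide +kernel : ∀ q : Md, q.i = q.j → q * q = 1 → q ∈ mV ∨ cM q (mw * mt)) q q1 q2 with e | e
    exacts [absurd (c.trans (h.zV e q3)).symm n, (c.trans (e.c f)).symm]
  have c2 : IsConj (f mt) (f mw) ∨ IsConj (f (my * mt)) (f mw) := by
    obtain ⟨q, q1, q2, q3, c⟩ := h.tt (fun p => 2 * (p.x + p.y) = if p.i then 2 else 0) rfl (by decide +kernel)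
      (by decide +kernel) (p := mw) (by decide) (by decide)
    rcases (by decide +kernel : ∀ q : Md, (2 * (q.x + q.y) = if q.i then 2 else 0) → q * q = 1 →
      q ∈ mV ∨ cM q mt ∨ cM q (my * mt)) q q1 q2 with e | e | e
    exacts [absurd (c.trans (h.zV e q3)).symm n, .inl (c.trans (e.c f)).symm, .inr (c.trans (e.c f)).symm]
  have all : ∀ p : Md, p * p = 1 → p ∈ mV ∨ cM p mw ∨ cM p (mw * mt) ∨ cM p mu ∨ cM p mt ∨ cM p (my * mt) := by
    decide +kernel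
  have c3 : IsConj (f mt) (f mz) ∨ IsConj (f (my * mt)) (f mz) := by
    by_contra! c
    have d1 := (h.zw (p := mt) (by decide) (by decide)).resolve_left c.1
    have d2 := (h.zw (p := my * mt) (by decide) (by decide)).resolve_left c.2
    rcases h.zw (p := mu) (by decide) (by decide) with d | d
    · obtain ⟨k, k1, k2⟩ := h.rk
      obtain ⟨q1, a1, e1⟩ := k2 mt (by decide)
      obtain ⟨q2, a2, e2⟩ := k2 (my * mt) (by decide)
      have K : ∀ {p q}, q ∈ mD → Cj f k p q → p * p = 1 → p ≠ 1 → IsConj (f p) (f mw) → cM q mt ∨ cM q (my * mt) :=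
        fun {p q} a e p2 p1 c => by
          rcases (by decide +kernel : ∀ q ∈ mD, q * q = 1 → q ∈ mV ∨ cM q mu ∨ cM q mt ∨ cM q (my * mt)) q a (h.sq e p2)
            with b | b | b
          exacts [(nn (e.c.trans (h.zV b (h.ne1 e p1))) c).elim, (nn (e.c.trans ((b.c f).trans d)) c).elim, b]
      have e3 : Cj f k mz _ := (e2.mul e1).mul (e2.mul e1)
      rcases (by decide +kernel : ∀ q1 : Md, cM q1 mt ∨ cM q1 (my * mt) → ∀ q2 : Md, cM q2 mt ∨ cM q2 (my * mt) →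
        q2 * q1 * (q2 * q1) = 1 ∨ q2 * q1 * (q2 * q1) = mz) q1 (K a1 e1 (by decide) (by decide) d1) q2
        (K a2 e2 (by decide) (by decide) d2) with e | e
      exacts [h.ne1 e3 (by decide) e, absurd (h.uq' k1 (e ▸ e3)) (by decide)]
    · refine h.gold h2 mV (by decide) (by decide +kernel) (fun p => h.zV) fun p p2 c' => ?_
      rcases all p p2 with e | e | e | e | e | e
      exacts [e, (nn c' (e.c f)).elim, (nn c' ((e.c f).trans c1)).elim, (nn c' ((e.c f).trans d)).elim,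
        (nn c' ((e.c f).trans d1)).elim, (nn c' ((e.c f).trans d2)).elim]
  have c4 : IsConj (f mt) (f mz) ∧ IsConj (f (my * mt)) (f mw) ∨ IsConj (f (my * mt)) (f mz) ∧ IsConj (f mt) (f mw) :=
    c3.imp (fun a => ⟨a, c2.resolve_left (nn a)⟩) fun a => ⟨a, c2.resolve_right (nn a)⟩
  refine ⟨c1, (h.zw (p := mu) (by decide) (by decide)).resolve_right fun d => ?_, c4⟩
  rcases c4 with ⟨a, b⟩ | ⟨a, b⟩
  · refine h.gold h2 mE (by decide) (by decide +kernel) (fun p hp p1 => ?_) fun p p2 c' => ?_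
    · exact ((by decide +kernel : ∀ p ∈ mE, p ∈ mV ∨ cM p mt) p hp).elim (h.zV · p1) fun e => (e.c f).trans a
    · rcases all p p2 with e | e | e | e | e | e
      exacts [(by decide +kernel : ∀ p ∈ mV, p ∈ mE) p e, (nn c' (e.c f)).elim, (nn c' ((e.c f).trans c1)).elim,
        (nn c' ((e.c f).trans d)).elim, (by decide +kernel : ∀ p, cM p mt → p ∈ mE) p e, (nn c' ((e.c f).trans b)).elim]
  · refine h.gold h2 (sub (fun p => p ∈ mV ∨ p * (my * mt) ∈ mV) (by decide) (by decide +kernel)) (.inl (by decide))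
      (fun p hp => (by decide +kernel : ∀ p, p ∈ mV ∨ p * (my * mt) ∈ mV → p * p = 1) p hp) (fun p hp p1 => ?_)
      fun p p2 c' => ?_
    · exact ((by decide +kernel : ∀ p, p ∈ mV ∨ p * (my * mt) ∈ mV → p ∈ mV ∨ cM p (my * mt)) p hp).elim (h.zV · p1)
        fun e => (e.c f).trans a
    · rcases all p p2 with e | e | e | e | e | e
      exacts [.inl e, (nn c' (e.c f)).elim, (nn c' ((e.c f).trans c1)).elim, (nn c' ((e.c f).trans d)).elim,
        (nn c' ((e.c f).trans b)).elim, .inr ((by decide +kernel : ∀ p, cM p (my * mt) → p * (my * mt) ∈ mV) p e)]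

theorem wH : ∃ u, ∀ p, IsConj (f p) (f mw) → (∃ y, y * p = p * y ∧ y * y = mz) → ∃ g ∈ C1[f mz], Cj f g p u := by
  have := Nat.fact_prime_two
  obtain ⟨T, hT, -⟩ := Sylow_superset (p := 2) (bot_le (a := C1[f mw])) IsPGroup.of_bot
  obtain ⟨k, -, hk⟩ := Sylow_Jsub h.syl le_top hT.pg
  have wT : f mw ∈ T := by
    obtain ⟨c, hc, e⟩ := Sylow_Jsub hT (zpowers_le.2 (cent1_self _)) (two_of_sq (by rw [← map_mul, h.one]; decide)).zpowers
    simpa [mem_cent1.1 hc] using e (conj_mem_cj c (mem_zpowers _))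
  obtain ⟨u, e⟩ := hk (conj_mem_cj k wT)
  have e : Cj f k mw u := e.symm
  refine ⟨u, fun p c ⟨y, y1, y2⟩ => ?_⟩
  obtain ⟨g, hg⟩ := isConj_iff.1 (c.trans e.c)
  obtain ⟨g, -, g1, g2⟩ := h.ex (H := ⊤) (R := cj k T) (q := u) (by rw [top_inf_eq, ← e, C1_conj]; exact pHallJ k hT) hk le_top
    (mem_top g) hg
  obtain ⟨y', e1⟩ := g2 y y1
  have e2 := y2 ▸ e1.mul e1
  have := (by decide +kernel : ∀ u : Md, u * u = 1 → u ∉ mV → ∀ y, y * u = u * y → y * y ≠ 1 → y * y = mz) u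
    (h.sq e (by decide)) (fun c => h.nzw h2 (e.c.trans (h.zV c (h.ne1 e (by decide)))).symm) y' (h.cm e1 g1 y1)
    (h.ne1 e2 (by decide))
  exact ⟨g, Cj.cen.1 (this ▸ e2), g1⟩

omit h2 in
theorem sylD : SylowIn 2 (mD.map f) (C1[f mz] ⊓ C1[f ma]) := by
  have := Nat.fact_prime_two
  have e : C1[f mz] ⊓ C1[f ma] = C[mV.map f] := by
    refine le_antisymm (le_cent_iff.2 ?_) (le_inf (cent_le_cent1 (mem_map_of_mem f (by decide)))
      (cent_le_cent1 (mem_map_of_mem f (by decide))))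
    rintro g ⟨g1, g2⟩ _ ⟨p, hp, rfl⟩
    rcases (by decide +kernel : ∀ p ∈ mV, p = 1 ∨ p = mz ∨ p = ma ∨ p = mz * ma) p hp with rfl | rfl | rfl | rfl
    exacts [by simp, mem_cent1.1 g1, mem_cent1.1 g2, mem_cent1.1 (Cj.cen.1 ((Cj.cen.2 g1).mul (Cj.cen.2 g2)))]
  have n : f.range ≤ N[mV.map f] := le_norm_of_cj_le (by
    rintro _ ⟨s, rfl⟩ _ ⟨_, ⟨p, hp, rfl⟩, rfl⟩
    exact ⟨s * p * s⁻¹, (by decide +kernel : ∀ s, ∀ p ∈ mV, s * p * s⁻¹ ∈ mV) s p hp, (Cj.of f s p).symm⟩)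
  have := Sylow_setI_normal (cent_normal (mV.map f)) (pHall_subl n le_top h.syl)
  rw [e]
  convert this using 1
  rw [← e]
  refine le_antisymm ?_ ?_
  · rintro _ ⟨p, hp, rfl⟩
    refine ⟨⟨h.zS ⟨p, rfl⟩, mem_cent1.2 ?_⟩, p, rfl⟩
    rw [← map_mul, (by decide +kernel : ∀ p ∈ mD, p * ma = ma * p) p hp, map_mul]
  · rintro _ ⟨⟨-, c⟩, p, rfl⟩
    exact ⟨p, (by decide +kernel : ∀ p, p * ma = ma * p → p ∈ mD) p (h.inj (by rw [map_mul, map_mul, mem_cent1.1 c])), rfl⟩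

omit h2 in
theorem cjF (n1 : Cj f n mz mz) (n2 : Cj f n ma ma) {b c : Bool} (hp : p ∈ mF b) (pj : p.j = true) (hq : q ∈ mF c)
    (e : Cj f n p q) : cj n ((mF b).map f) ≤ (mF c).map f := by
  rintro _ ⟨_, ⟨r, hr, rfl⟩, rfl⟩
  have V : ∀ v ∈ mV, Cj f n v v := fun v hv => by
    rcases (by decide +kernel : ∀ p ∈ mV, p = 1 ∨ p = mz ∨ p = ma ∨ p = mz * ma) v hv with rfl | rfl | rfl | rfl
    exacts [Cj.one f n, n1, n2, n1.mul n2]
  have l : ∀ c, ∀ v ∈ mV, v ∈ mF c := by decide +kernel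
  rcases (by decide +kernel : ∀ b, ∀ p ∈ mF b, p.j = true → ∀ r ∈ mF b, r ∈ mV ∨ r * p⁻¹ ∈ mV) b p hp pj r hr with v | v
  · exact ⟨r, l c r v, (V r v).symm⟩
  · exact ⟨_, mul_mem (l c _ v) hq, by simpa [Cj] using ((V _ v).mul e).symm⟩

omit h2 in
theorem noT (n1 : Cj f n mz mz) (n2 : Cj f n ma ma) (e : Cj f n (mw * mu * mw⁻¹) mu) : False := by
  have := Nat.fact_prime_two
  have nD : ∀ b, mD.map f ≤ N[(mF b).map f] := fun b => le_norm_of_cj_le (by
    rintro _ ⟨s, hs, rfl⟩ _ ⟨_, ⟨p, hp, rfl⟩, rfl⟩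
    exact ⟨s * p * s⁻¹, (by decide +kernel : ∀ b, ∀ s ∈ mD, ∀ p ∈ mF b, s * p * s⁻¹ ∈ mF b) b s hs p hp,
      (Cj.of f s p).symm⟩)
  have nC : n ∈ C1[f mz] ⊓ C1[f ma] := ⟨Cj.cen.1 n1, Cj.cen.1 n2⟩
  have cF : #((mF true).map f) = #((mF false).map f) := by
    rw [h.card, h.card, Nat.card_eq_fintype_card, Nat.card_eq_fintype_card]; decide +kernel
  have e1 : cj n ((mF false).map f) = (mF true).map f :=
    eq_of_card_le (h.cjF n1 n2 (by decide) rfl (by decide) e) (by rw [card_cj, cF])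
  obtain ⟨c, hc, e2⟩ := Sylow_Jsub (pHall_subl (le_inf h.sylD.le (nD true)) inf_le_left h.sylD) (Q := cj n (mD.map f))
    (le_inf (cj_le_of_mem nC h.sylD.le) (by rw [← e1, N_cj]; exact cj_mono n (nD false))) (h.sylD.pg.map _)
  rw [← cj_mul] at e2
  have kC := mul_mem hc.1 nC
  have e3 : cj (c * n) ((mF false).map f) = (mF true).map f := by rw [cj_mul, e1, cj_of_norm hc.2]
  generalize c * n = k at e2 kC e3
  have k1 := Cj.cen.2 kC.1
  have k2 := Cj.cen.2 kC.2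
  obtain ⟨q, hq, e4⟩ := e3.le (conj_mem_cj k (mem_map_of_mem f (show mw * mu * mw⁻¹ ∈ mF false by decide)))
  have e4 : Cj f k (mw * mu * mw⁻¹) q := e4.symm
  have qj : q.j = true := (by decide +kernel : ∀ q ∈ mF true, q ∉ mV → q.j = true) q hq fun c => by
    rcases (by decide +kernel : ∀ p ∈ mV, p = 1 ∨ p = mz ∨ p = ma ∨ p = mz * ma) q c with rfl | rfl | rfl | rfl
    exacts [h.ne1 e4 (by decide) rfl, absurd (h.uq' e4 k1) (by decide), absurd (h.uq' e4 k2) (by decide),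
      absurd (h.uq' e4 (k1.mul k2)) (by decide)]
  obtain ⟨r, hr, e5⟩ := e2 (conj_mem_cj k (mem_map_of_mem f (show q * (mw * mu * mw⁻¹) ∈ mD from
    (by decide +kernel : ∀ q ∈ mF true, q * (mw * mu * mw⁻¹) ∈ mD) q hq)))
  have e5 : Cj f k (q * (mw * mu * mw⁻¹)) r := e5.symm
  have s : ∀ q ∈ mF true, q.j = true → q * (mw * mu * mw⁻¹) * (q * (mw * mu * mw⁻¹)) = mz := by decide +kernel
  have e6 : Cj f k q (r * q) := by
    have := e5.mul e4
    rwa [mul_assoc q, show mw * mu * mw⁻¹ * (mw * mu * mw⁻¹) = 1 by decide, mul_one] at this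
  have := sq_norm h.sylD (nD false) kC (mem_norm_of_cj_le e2) (mem_norm_of_cj_le (h.cjF (k1.trans k1) (k2.trans k2)
    (by decide) rfl ((by decide +kernel : ∀ q ∈ mF true, q.j = true → ∀ r ∈ mD, r * r = mz → r * q ∈ mF false) q hq qj r hr
      (h.uq (s q hq qj ▸ e5.mul e5) k1)) (e4.trans e6)))
  rw [cj_of_norm this] at e3
  exact absurd (h.mem.1 (e3.ge (mem_map_of_mem f (show mu ∈ mF true by decide)))) (by decide)

theorem fz0 (ht : IsConj (f mt) (f mz)) : Fz f := by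
  obtain ⟨c1, c2, c3⟩ := h.cls h2
  have n := h.nzw h2
  have nn : ∀ {p}, IsConj (f p) (f mz) → IsConj (f p) (f mw) → False := fun a b => n (a.symm.trans b)
  have c4 := (c3.resolve_right fun c => nn ht c.2).2
  have hz : ∀ p, zc p → IsConj (f p) (f mz) := fun p hp => by
    rcases (by decide +kernel : ∀ p, zc p → p ∈ mV ∨ cM p mu ∨ cM p mt) p hp with e | e | e
    exacts [h.zV e hp.1, (e.c f).trans c2, (e.c f).trans ht]
  have hw : ∀ p, wc p → IsConj (f p) (f mw) := fun p hp => by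
    rcases (by decide +kernel : ∀ p, wc p → cM p mw ∨ cM p (mw * mt) ∨ cM p (my * mt)) p hp with e | e | e
    exacts [e.c f, (e.c f).trans c1, (e.c f).trans c4]
  refine ⟨h, hz, fun p hp => ?_, n, ?_⟩
  · obtain ⟨u, hu⟩ := h.wH h2
    have y : ∀ p, wc p → ∃ y, y * p = p * y ∧ y * y = mz := by decide +kernel
    obtain ⟨g, hg, e⟩ := hu p (hw p hp) (y p hp)
    obtain ⟨k, hk, e'⟩ := hu mw (.refl _) (y mw (by decide))
    exact ⟨k⁻¹ * g, mul_mem (inv_mem hk) hg, e.trans e'.inv⟩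
  rintro g hg ⟨q, hq, e⟩
  have e : Cj f g mu q := e.symm
  have gz := Cj.cen.2 hg
  have zs : ∀ s, Cj f (f s) mz mz := fun s => Cj.cen.2 (h.zS ⟨s, rfl⟩)
  have tV : ∃ g, Cj f g mz mz ∧ Cj f g mt ma := by
    obtain ⟨g, g1, g2⟩ := h.exz ht
    obtain ⟨k, k1, k2⟩ := h.rk
    obtain ⟨y, e1⟩ := g2 (ma * mw) (by decide)
    have e2 : Cj f g mz (y * y) := e1.mul e1
    obtain ⟨s, hs⟩ := (by decide +kernel : ∀ y : Md, y * y ≠ 1 → y * y * (y * y) = 1 → y * y ≠ mz → cM (y * y) ma) y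
      (h.ne1 e2 (by decide)) (h.sq e2 (by decide)) fun c => absurd (h.uq' g1 (c ▸ e2)) (by decide)
    obtain ⟨v, hv, e3⟩ := k2 mz (by decide)
    obtain ⟨y', hy, e4⟩ := k2 my (by decide)
    obtain rfl := h.uq (e4.mul e4) e3
    obtain ⟨s', hs'⟩ := (by decide +kernel : ∀ y : Md, y * y ≠ 1 → y * y * (y * y) = 1 → y * y ≠ mz → cM (y * y) ma) y'
      (h.ne1 e3 (by decide)) (h.sq e3 (by decide)) fun c => absurd (h.uq' k1 (c ▸ e3)) (by decide)
    exact ⟨_, ((e2.trans (hs ▸ Cj.of f s _)).trans k1).trans (zs s'), ((g1.trans (zs s)).trans e3).trans (hs' ▸ Cj.of f s' _)⟩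
  obtain ⟨g, gz, e⟩ : ∃ g, Cj f g mz mz ∧ Cj f g mu ma := by
    rcases (by decide +kernel : ∀ q ∈ mQ, q * q = 1 → q ≠ 1 → q = mz ∨ cM q ma ∨ cM q mt ∨ wc q) q hq
      (h.sq e (by decide)) (h.ne1 e (by decide)) with rfl | ⟨s, hs⟩ | ⟨s, hs⟩ | c
    · exact absurd (h.uq' e gz) (by decide)
    · exact ⟨_, gz.trans (zs s), e.trans (hs ▸ Cj.of f s _)⟩
    · obtain ⟨k, k1, k2⟩ := tV
      exact ⟨_, (gz.trans (zs s)).trans k1, (e.trans (hs ▸ Cj.of f s _)).trans k2⟩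
    · exact (nn c2 (e.c.trans (hw q c))).elim
  obtain ⟨k, hk, k1, k2⟩ := h.ex h.sylD (map_le_range f _) h.zS (Cj.cen.1 gz) e
  have kz := Cj.cen.2 hk
  obtain ⟨q, k3⟩ := k2 ma (by decide)
  have e1 : my * q * my⁻¹ = q * mz := (by decide +kernel : ∀ q, q * q = 1 → q * ma = ma * q → q ≠ 1 → q ≠ mz → q ≠ ma →
      q ≠ ma * mz → my * q * my⁻¹ = q * mz) q (h.sq k3 (by decide)) (h.cm k3 k1 (by decide)) (h.ne1 k3 (by decide))
    (fun c => absurd (h.uq' kz (c ▸ k3)) (by decide)) (fun c => absurd (h.uq' k1 (c ▸ k3)) (by decide))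
    fun c => absurd (h.uq' (k1.mul kz) (c ▸ k3)) (by decide)
  have d1 : Cj f (k⁻¹ * (f my * k)) mz mz := (kz.trans (zs my)).trans kz.inv
  have d2 : Cj f (k⁻¹ * (f my * k)) mu mu := (k1.trans (Cj.of f my ma)).trans k1.inv
  have d3 : Cj f (k⁻¹ * (f my * k)) ma (ma * mz) := (k3.trans (e1 ▸ Cj.of f my q)).trans (k3.mul kz).inv
  exact h.noT ((zs mw⁻¹).trans d1) ((Cj.of f mw⁻¹ ma).trans (d3.mul d1)) ((Cj.of f mw⁻¹ _).trans d2)

theorem fz : ∃ f' : Md →* G, Fz f' := by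
  rcases (h.cls h2).2.2 with ⟨c, -⟩ | ⟨c, -⟩
  · exact ⟨f, h.fz0 h2 c⟩
  let θ : Md →* Md := MonoidHom.mk' (fun p => if p.j then my * p else p) (by decide +kernel)
  have i : Function.Injective θ := (injective_iff_map_eq_one θ).2 (by decide +kernel)
  refine ⟨f.comp θ, Fm.fz0 ⟨h.inj.comp i, ?_⟩ h2 c⟩
  rw [MonoidHom.range_comp, MonoidHom.range_eq_top.2 (Finite.surjective_of_injective i), ← MonoidHom.range_eq_map]
  exact h.syl

end Fm

end Cfsg.Agent.M12S
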