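import Cfsg.Agent.M12S.A
import Cfsg.Agent.S0111

/-! The centralizer `H` of the central involution: a subgroup of index 2 with Sylow 2-subgroup `Q`, and `H = O(H) N(Q)`. -/

set_option autoImplicit false
set_option linter.unusedSectionVars false

namespace Cfsg.Agent.M12S

open Cfsg.Agent.BG Cfsg.Agent.CIT Subgroup

variable {G : Type*} [Group G] [Finite G] {f : Md →* G}

theorem card_mQ : #mQ = 32 := by rw [Nat.card_eq_fintype_card]; decide +kernel

theorem Fz.h0 (h : Fz f) : ∃ K ≤ C1[f mz], K.relIndex C1[f mz] = 2 ∧ SylowIn 2 (mQ.map f) K := by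
  have := Nat.fact_prime_two
  have s := pHall_subgroupOf le_rfl h.sylH
  rw [subgroupOf_self] at s
  obtain ⟨P, hP⟩ := sylow_of_sylowIn_top s
  have hH : ∀ p, f p ∈ C1[f mz] := fun p => h.zS ⟨p, rfl⟩
  have i : (mQ.map f).relIndex f.range = 2 := by
    have := card_mul_relIndex (map_le_range f mQ)
    rw [h.card, card_mQ, MonoidHom.range_eq_map, h.card, card_top, card_Md] at this
    rw [MonoidHom.range_eq_map]; omega
  obtain ⟨M, hM, hi, hu⟩ := (S0111.result P ((mQ.map f).subgroupOf C1[f mz])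
    (hP ▸ subgroupOf_mono _ (map_le_range f mQ)) (by rw [hP, relIndex_subgroupOf h.zS, i]) ⟨f mu, hH mu⟩
    (by rw [← Subgroup.orderOf_coe, orderOf_injective f h.inj]; exact orderOf_eq_prime (by decide) (by decide))
    (hP ▸ ⟨mu, rfl⟩) (fun e => absurd (h.mem.1 e) (by decide))).resolve_right fun ⟨g, hg⟩ => h.out g g.2 hg
  have hK := normal_map_subtype hM
  refine ⟨_, hK.le, (relIndex_map_subtype M).trans hi, ?_⟩
  have m : ∀ p, f p ∈ M.map C1[f mz].subtype ↔ (⟨f p, hH p⟩ : C1[f mz]) ∈ M := fun p =>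
    mem_map_iff_mem (f := C1[f mz].subtype) (x := ⟨f p, hH p⟩) (subtype_injective _)
  generalize M.map C1[f mz].subtype = K at *
  have mul : ∀ p q, f (p * q) ∈ K ↔ (f p ∈ K ↔ f q ∈ K) := fun p q => by
    rw [m, m, m, ← mul_mem_iff_of_index_two hi]; simp only [map_mul]; rfl
  have w : ∀ p, wc p → (f p ∈ K ↔ f mw ∈ K) := fun p hp => by
    obtain ⟨g, hg, e⟩ := h.hw p hp
    rw [← e, conj_mem_iff_of_norm (hK.norm hg)]
  have e1 := mul mw (mw * mt)
  have e2 := mul ⟨1, 1, false, true⟩ (mw * (mw * mt))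
  have e3 := mul (⟨1, 1, false, true⟩ * (mw * (mw * mt))) (mw * mt)
  have e4 := mul ⟨1, -1, true, false⟩ mw
  rw [w (mw * mt) (by decide)] at e1 e3
  rw [w ⟨1, 1, false, true⟩ (by decide)] at e2
  rw [w _ (by decide)] at e3
  rw [w ⟨1, -1, true, false⟩ (by decide)] at e4
  have k : f mw ∈ K := by tauto
  have Q : ∀ q ∈ mQ, f q ∈ K := fun q hq => by
    obtain ⟨a, b, c, d, e⟩ : ∃ a b : Fin 4, ∃ c d : Fin 2, q = (⟨1, 1, false, true⟩ * (mw * (mw * mt))) ^ a.1 *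
      (⟨1, -1, true, false⟩ * mw) ^ b.1 * mw ^ c.1 * (mw * (mw * mt)) ^ d.1 := by revert q; decide +kernel
    rw [e, map_mul, map_mul, map_mul, map_pow, map_pow, map_pow, map_pow]
    exact mul_mem (mul_mem (mul_mem (pow_mem (by tauto) _) (pow_mem (by tauto) _)) (pow_mem k _)) (pow_mem (by tauto) _)
  have : K ⊓ f.range = mQ.map f := by
    refine le_antisymm ?_ (le_inf (map_le_iff_le_comap.2 Q) (map_le_range f mQ))
    rintro _ ⟨hp, p, rfl⟩
    refine h.mem.2 (by_contra fun n => hu ((m mu).1 (((mul p mu).1 (Q _ ?_)).1 hp)))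
    exact (by decide +kernel : ∀ p, p ∉ mQ → p * mu ∈ mQ) p n
  exact this ▸ Sylow_setI_normal hK h.sylH

open L34S in
theorem absyl' {E : Subgroup G} {a b : G} (hE : EA E) (c : #E = 16) (hS : SylowIn 2 E ⊤)
    (h1 : ∀ a ∈ E, a ≠ 1 → C1[a] ⊓ N[E] ≤ C[E]) (ha : a ∈ E) (hb : b ∈ E) (a1 : a ≠ 1) (b1 : b ≠ 1)
    (h2 : ∀ n ∈ N[E], n * a * n⁻¹ ≠ b) : Group.IsSolvable (⊤ : Subgroup G) ∧ ⊤ ≤ Op' 2 ⊤ ⊔ N[E] := by
  have := Nat.fact_prime_two
  have wc : ∀ g, cj g E ≤ E → cj g E = E := fun g h => eq_of_card_le h (card_cj g E).ge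
  have bu : ∀ a ∈ E, a ≠ 1 → Sdprod (Op' 2 C1[a]) E C1[a] := fun a ha a1 =>
    Burnside_normal_complement (pHall_subl (hE.cent.trans (cent_le_cent1 ha)) le_top hS) (h1 a ha a1)
  obtain ⟨o, -⟩ := sig hE c fun a ha a1 => (bu a ha a1).sup ▸ series_sol (normalYl (bu a ha a1).norm)
    (SE.sol_of_odd (pnat_odd.1 (pcore_pgroup _ _)))
    (by rw [quotientYidl (bu a ha a1).norm]; exact quotient_sol _ (pgroup_sol hE.pg))
  have n : N[E] ≤ N[Wf E ⊔ E] := normsY norm_Wf le_rfl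
  rcases se (M := N[Wf E ⊔ E]) hS ((normG E).trans n) ha (hE.ord ha a1) (fun t ht t2 g hg => by
    obtain ⟨k, hk, e⟩ := fus hE hS wc ht hg
    refine (mul_mem_cancel_left (inv_mem (n hk))).1 (normG _ ?_)
    refine ((bu t ht (ne_one_of_ord t2)).sup.ge.trans (sup_le_sup_right (le_Wf ht (ne_one_of_ord t2)) E)) (mem_cent1.2 ?_)
    calc _ = k⁻¹ * (g * t * g⁻¹) * g := by group
      _ = _ := by rw [← e]; group) with e | e
  · have q : Wf E ⊔ E ⊴ ⊤ := ⟨le_top, e.ge⟩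
    have w := (normG E).trans (norm_Wf (E := E))
    refine ⟨series_sol q (solvableY (.inr w) (SE.sol_of_odd o) (pgroup_sol hE.pg)) (SE.sol_of_odd ?_), ?_⟩
    · rw [card_quotient q.norm]
      exact Nat.odd_iff.2 (Nat.two_dvd_ne_zero.1 fun d => hS.not_dvd (d.trans (relIndex_dvd_of_le_left _ le_sup_right)))
    · refine (Frattini_arg q (pHall_subl le_sup_right le_top hS)).ge.trans
        (sup_le (sup_le_sup ?_ (normG E)) (inf_le_right.trans le_sup_right))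
      exact (pcore_max (normalYl w) (pnat_odd.2 o)).trans (pcoreS_normal _ q)
  · obtain ⟨g, hg⟩ := isConj_iff.1 (Invol.SE.isConj e (hE.ord ha a1) (hE.ord hb b1))
    obtain ⟨k, hk, e⟩ := fus hE hS wc ha (hg ▸ hb)
    exact absurd (e.trans hg) (h2 k hk)

theorem absylR {E M : Subgroup G} {a b : G} (hE : EA E) (c : #E = 16) (hS : SylowIn 2 E M)
    (h1 : ∀ a ∈ E, a ≠ 1 → M ⊓ N[E] ⊓ C1[a] ≤ C[E]) (ha : a ∈ E) (hb : b ∈ E) (a1 : a ≠ 1) (b1 : b ≠ 1)
    (h2 : ∀ n ∈ M, n * a * n⁻¹ ≠ b) : Group.IsSolvable M ∧ M ≤ Op' 2 M ⊔ M ⊓ N[E] := by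
  have s := pHall_subgroupOf le_rfl hS
  rw [subgroupOf_self] at s
  have m : (E.subgroupOf M).map M.subtype = E := by rw [subgroupOf_map_subtype, inf_eq_left.2 hS.le]
  have nn : ∀ x : M, x ∈ N[E.subgroupOf M] → (x : G) ∈ N[E] := fun x hx =>
    m ▸ norms_map M.subtype le_rfl ⟨x, hx, rfl⟩
  obtain ⟨s1, s2⟩ := absyl' (a := ⟨a, hS.le ha⟩) (b := ⟨b, hS.le hb⟩) (fun x hx => Subtype.ext (hE x hx))
    ((card_subgroupOf hS.le).trans c) s
    (fun x hx x1 n hn => mem_cent.2 fun y hy => Subtype.ext (mem_cent.1 (h1 x hx (fun e => x1 (Subtype.ext e))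
      ⟨⟨n.2, nn n hn.2⟩, mem_cent1.2 (congrArg Subtype.val (mem_cent1.1 hn.1))⟩) y hy))
    ha hb (fun e => a1 (congrArg Subtype.val e)) (fun e => b1 (congrArg Subtype.val e))
    fun n _ e => h2 n n.2 (congrArg Subtype.val e)
  refine ⟨isog_sol (isog_symm isog_top) s1, ?_⟩
  have := map_mono (f := M.subtype) s2
  rw [map_subtype_top, Subgroup.map_sup, Op', ← pcore_map_inj (subtype_injective M), map_subtype_top] at this
  exact this.trans (sup_le_sup_left (by rintro _ ⟨x, hx, rfl⟩; exact ⟨x.2, nn x hx⟩) _)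

theorem Fz.str_of (h : Fz f) (aut : ∀ K : Subgroup G, SylowIn 2 (mQ.map f) K → K ≤ C1[f mz] → ∀ n ∈ K, n ∈ N[mQ.map f] →
    ∀ p ∈ mQ, p ≠ 1 → p ≠ mz → (n * f p * n⁻¹ = f p ∨ n * f p * n⁻¹ = f p * f mz) →
      ∀ q ∈ mQ, n * f q * n⁻¹ = f q ∨ n * f q * n⁻¹ = f q * f mz) :
    Group.IsSolvable C1[f mz] ∧ C1[f mz] ≤ Op' 2 C1[f mz] ⊔ N[mQ.map f] := by
  have := Nat.fact_prime_two
  obtain ⟨K, KH, i, s⟩ := h.h0
  have hK : K ⊴ C1[f mz] := normal_of_subgroupOf KH (normal_of_index_eq_two i)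
  have z2 : f mz * f mz = 1 := by rw [← map_mul, h.one]; decide
  have mZ : ∀ {v}, v ∈ zpowers (f mz) ↔ v = 1 ∨ v = f mz := Invol.mem_zpowers_invol z2
  have cZ : #(zpowers (f mz)) = 2 := by
    rw [Nat.card_zpowers]; exact orderOf_eq_prime (by rw [pow_two, z2]) (by rw [Ne, h.one]; decide)
  have ZQ : zpowers (f mz) ≤ mQ.map f := zpowers_le.2 (h.mem.2 (by decide))
  have KC : K ≤ C[zpowers (f mz)] := by rw [C_zpowers]; exact KH
  have zc : ∀ n ∈ K, n * f mz * n⁻¹ = f mz := fun n hn => conj_eq_of_cent (KC hn) (mem_zpowers _)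
  generalize zpowers (f mz) = Z at *
  have KN := cents_norm KC
  have ZK : Z ⊴ K := ⟨ZQ.trans s.le, KN⟩
  have zQ : Z ⊴ mQ.map f := ZK.subl ZQ s.le
  have qN : ∀ p ∈ mQ, f p ∈ N[Z] := fun p hp => zQ.norm (h.mem.2 hp)
  have ce : ∀ n ∈ K, ∀ p ∈ mQ, ∀ q ∈ mQ, coset Z n * coset Z (f p) * (coset Z n)⁻¹ = coset Z (f q) ↔
      n * f p * n⁻¹ = f q ∨ n * f p * n⁻¹ = f q * f mz := fun n hn p hp q hq => by
    rw [← coset_inv (KN hn), ← coset_mul (KN hn) (qN p hp), ← coset_mul (mul_mem (KN hn) (qN p hp)) (inv_mem (KN hn)),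
      eq_comm, coset_eq_iff (qN q hq) (mul_mem (mul_mem (KN hn) (qN p hp)) (inv_mem (KN hn))), mZ,
      inv_mul_eq_iff_eq_mul, inv_mul_eq_iff_eq_mul, mul_one]
  have c1 : ∀ p ∈ mQ, coset Z (f p) = 1 ↔ p = 1 ∨ p = mz := fun p hp => by
    rw [coset_eq_one (qN p hp), mZ, h.one, h.eq]
  have mE : ∀ a ∈ mQ.map f /ᵍ Z, ∃ p ∈ mQ, a = coset Z (f p) := fun a ha => by
    obtain ⟨_, ⟨p, hp, rfl⟩, -, rfl⟩ := mem_quotient_iff.1 ha
    exact ⟨p, hp, rfl⟩
  have mE' : ∀ p ∈ mQ, coset Z (f p) ∈ mQ.map f /ᵍ Z := fun p hp => mem_quotient (qN p hp) (h.mem.2 hp)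
  obtain ⟨s1, s2⟩ := absylR (E := mQ.map f /ᵍ Z) (M := K /ᵍ Z) (fun a ha => by
      obtain ⟨p, hp, rfl⟩ := mE a ha
      rw [← coset_mul (qN p hp) (qN p hp), ← map_mul, c1 _ (mul_mem hp hp)]
      exact (by decide +kernel : ∀ p ∈ mQ, p * p = 1 ∨ p * p = mz) p hp)
    (by have := card_mul_quotient zQ; rw [cZ, h.card, card_mQ] at this; omega) (quotient_pHall KN s)
    (fun a ha a1 n hn => by
      obtain ⟨p, hp, rfl⟩ := mE a ha
      rw [← quotient_subnormG K zQ] at hn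
      obtain ⟨n, hn', -, rfl⟩ := mem_quotient_iff.1 hn.1
      refine mem_cent.2 fun b hb => ?_
      obtain ⟨q, hq, rfl⟩ := mE b hb
      rw [Ne, c1 p hp, not_or] at a1
      rw [eq_comm, ← mul_inv_eq_iff_eq_mul, ce n hn'.1 q hq q hq]
      exact aut K s KH n hn'.1 hn'.2 p hp a1.1 a1.2
        ((ce n hn'.1 p hp p hp).1 (mul_inv_eq_iff_eq_mul.2 (mem_cent1.1 hn.2))) q hq)
    (mE' ⟨1, 1, false, false⟩ (by decide)) (mE' ma (by decide)) (by rw [Ne, c1 _ (by decide)]; decide)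
    (by rw [Ne, c1 _ (by decide)]; decide) (fun n hn' e => by
      obtain ⟨n, hn, -, rfl⟩ := mem_quotient_iff.1 hn'
      have k : f mz = (n * f ⟨1, 1, false, false⟩ * n⁻¹) * (n * f ⟨1, 1, false, false⟩ * n⁻¹) := by
        rw [← zc n hn, show mz = ⟨1, 1, false, false⟩ * ⟨1, 1, false, false⟩ by decide, map_mul]; group
      rcases (ce n hn _ (by decide) _ (by decide)).1 e with e | e <;> rw [e] at k <;>
        simp only [← map_mul, h.eq] at k <;> exact absurd k (by decide))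
  have pZ : IsPGroup 2 Z := pgroup_of_card_p cZ
  refine ⟨series_sol hK (series_sol ZK (pgroup_sol pZ) s1)
    (pgroup_sol (pgroup_of_card_p ((card_quotient hK.norm).trans i))), ?_⟩
  refine (Frattini_arg hK s).ge.trans (sup_le ?_ (inf_le_right.trans le_sup_right))
  have O := cosetpre_normal ZK (pcore_normal {2}ᶜ (K /ᵍ Z))
  have b := Burnside_normal_complement (sylow_mk (sub_cosetpre (Op' 2 (K /ᵍ Z))) pZ (by
    rw [← card_quotient (cosetpre_norm _), cosetpreK]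
    exact (pnat_odd.1 (pcore_pgroup _ _)).not_two_dvd_nat)) (inf_le_left.trans (O.le.trans KC))
  refine le_trans ((quotientSGK KN (B := coquo Z (Op' 2 (K /ᵍ Z)) ⊔ K ⊓ N[mQ.map f])
    ((sub_cosetpre _).trans le_sup_left)).1 ?_) (sup_le (b.sup.ge.trans (sup_le_sup ?_ (normsG ZQ)))
      (inf_le_right.trans le_sup_right))
  · rwa [quotientY (cosetpre_norm _) (inf_le_left.trans KN), cosetpreK, quotient_subnormG K zQ]
  · exact (pcoreS_normal _ O).trans (pcoreS_normal _ hK)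

end Cfsg.Agent.M12S
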