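import Cfsg.Agent.M12S.A
import Cfsg.Agent.HJS.G6
import Cfsg.Agent.S1175

/-! Sylow 2-subgroup of type `M12`, two classes: the core of `C(z)` is trivial (helper12). -/

set_option autoImplicit false
set_option linter.unusedSectionVars false
set_option synthInstance.maxSize 100000
set_option synthInstance.maxHeartbeats 400000

namespace Cfsg.Agent.M12S

open Cfsg.Agent.BG Subgroup
open Cfsg.Agent.HJS (Oc odd_Op' le_Op' cop2 OcJ Wd le_Wd WdJ abelem_of odd_elt pg_zp cmul)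

theorem t4a : ∀ p : Md, (p * mz = mz * p) ∧ p ^ 8 = 1 ∧ (p * p = 1 → p = 1 ∨ zc p ∨ wc p) ∧
    (p ∈ mE → p ∈ mQ ∧ p * p = 1 ∧ (p = 1 ∨ zc p)) ∧ (p ∈ mQ → zc p → p ∈ mE) ∧ (p ∈ mV → p ∈ mE) ∧
    ((∀ q ∈ mQ, q * p = p * q) → p = 1 ∨ p = mz) ∧ (p * p * (p * p) = 1 → p * p ∈ mV) ∧
    (p ∈ mV → p = 1 ∨ p = mz ∨ ∃ k, k * p * k⁻¹ = ma) ∧ (zc p → p ≠ mz → zc (mz * p)) := by decide +kernel
theorem t4b : ∀ b ∈ mE, ∃ e ∈ mE, ∃ e' ∈ mE, (e ≠ 1 ∧ e ≠ b) ∧ (e' ≠ 1 ∧ e' ≠ b) ∧ e * e' ≠ 1 ∧ e * e' ≠ b := by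
  decide +kernel
theorem t4c : ∀ p q : Md, p ∈ mQ ∨ q ∈ mQ ∨ p * q ∈ mQ := by decide +kernel
theorem t4d : ∀ t α : Md, zc t → ¬ zc (α * t) → α * t * (α * t) = 1 → α * α ∈ mV → α * α ≠ 1 → α * α ≠ mz → t ∉ mQ := by
  decide +kernel
theorem t4e : ∀ p t : Md, zc p → zc t → t ∉ mQ →
    ∃ k, k * p * k⁻¹ = mz ∨ k * p * k⁻¹ = ma ∨ k * p * k⁻¹ = mt ∨ k * p * k⁻¹ = t := by decide +kernel
theorem t4f : ∀ v ∈ mV, ∀ z' : Md, v = 1 ∨ v = mz ∨ v = ma ∨ v = mz * ma := by decide +kernel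
theorem t4g : ∀ z' ∈ mV, z' * mz ∈ mV := by decide +kernel
theorem card_mE : Nat.card mE = 8 := by rw [Nat.card_eq_fintype_card]; decide +kernel
theorem card_mV : Nat.card mV = 4 := by rw [Nat.card_eq_fintype_card]; decide +kernel

variable {G : Type*} [Group G] [Finite G] {f : Md →* G}

namespace Fz

variable (F : Fz f)
include F

theorem zc_of {p : Md} (h : IsConj (f mz) (f p)) : zc p := by
  obtain ⟨g, e⟩ := isConj_iff.1 h
  have h2 : p * p = 1 := F.one.1 (by rw [map_mul, ← e, ← cmul, ← map_mul, show mz * mz = 1 by decide]; simp)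
  rcases (t4a p).2.2.1 h2 with rfl | h1 | h1
  · rw [map_one, conj_eq_one_iff, F.one] at e; exact absurd e (by decide)
  · exact h1
  · obtain ⟨k, -, e'⟩ := F.hw p h1
    exact absurd (h.trans (isConj_iff.2 ⟨k, e'⟩)) F.nzw

theorem zc_tr {g : G} {p q : Md} (e : g * f p * g⁻¹ = f q) (h : zc p) : zc q :=
  F.zc_of ((F.hz p h).symm.trans (isConj_iff.2 ⟨g, e⟩))

theorem pg (K : Subgroup Md) : IsPGroup 2 (K.map f) := F.syl.pg.to_le (map_le_range f K)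

theorem NQE : N[mQ.map f] ≤ N[mE.map f] := fun n hn => mem_norm_of_cj_le (by
  rintro - ⟨-, ⟨p, hp, rfl⟩, rfl⟩
  obtain ⟨q, hq, e⟩ := conj_mem_of_norm hn (mem_map_of_mem f ((t4a p).2.2.2.1 hp).1)
  rcases ((t4a p).2.2.2.1 hp).2.2 with rfl | h
  · simp
  · exact ⟨q, (t4a q).2.2.2.2.1 hq (F.zc_tr e.symm h), e⟩)

theorem NQH : N[mQ.map f] ≤ C1[f mz] := fun n hn => by
  obtain ⟨q, hq, e⟩ := conj_mem_of_norm hn (mem_map_of_mem f (show mz ∈ mQ by decide))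
  rcases (t4a q).2.2.2.2.2.2.1 (fun r hr => by
    obtain ⟨r', -, e'⟩ := conj_mem_of_norm (inv_mem hn) (mem_map_of_mem f hr)
    rw [← F.eq, map_mul, map_mul, e, show f r = n * f r' * n⁻¹ by rw [e']; group, ← cmul, ← cmul, ← map_mul, ← map_mul,
      (t4a r').1]) with rfl | rfl
  · exact absurd rfl (F.zc_tr e.symm (by decide)).1
  · exact mem_cent1.2 (mul_inv_eq_iff_eq_mul.1 e.symm)

theorem TN (K : Subgroup Md) (h : ∀ k, ∀ p ∈ K, k * p * k⁻¹ ∈ K) : f.range ≤ N[K.map f] := by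
  rintro - ⟨k, rfl⟩
  refine mem_norm_of_cj_le ?_
  rintro - ⟨-, ⟨p, hp, rfl⟩, rfl⟩
  exact ⟨_, h k p hp, by simp⟩

theorem extz {p : Md} (h : zc p) : ∃ k, k * f p * k⁻¹ = f mz ∧ ∀ q, q * p = p * q → ∃ q', k * f q * k⁻¹ = f q' := by
  obtain ⟨g, e⟩ := isConj_iff.1 (F.hz p h)
  obtain ⟨k, -, e1, e2⟩ := ext (H := ⊤) (R := f.range) (S := f.range) (by rw [top_inf_eq]; exact F.sylH) F.syl.pg le_top
    (mem_top g) e
  refine ⟨k, e1, fun q hq => ?_⟩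
  obtain ⟨q', e⟩ := e2 (f q) ⟨q, rfl⟩ (by rw [← map_mul, hq, map_mul])
  exact ⟨q', e.symm⟩

theorem trV {k : G} {r r' : Md} (e : k * f r * k⁻¹ = f r') (h : r * r = mz) :
    k * f mz * k⁻¹ = f (r' * r') ∧ r' * r' ∈ mV := by
  have e1 : k * f mz * k⁻¹ = f (r' * r') := by rw [← h, map_mul, cmul, e, map_mul]
  exact ⟨e1, (t4a r').2.2.2.2.2.2.2.1 (F.zc_tr e1 (by decide)).2.1⟩

/-- control of fusion by an overgroup of `C(z)` and `N(V)` -/
theorem fus {M : Subgroup G} (h1 : C1[f mz] ≤ M) (h2 : N[mV.map f] ≤ M) {p : Md} (hp : zc p) :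
    ∃ m ∈ M, m * f p * m⁻¹ = f mz := by
  have TM : ∀ k, f k ∈ M := fun k => h1 (F.zS ⟨k, rfl⟩)
  obtain ⟨k, k1, k2⟩ := F.extz (p := ma) (by decide)
  obtain ⟨α, hα⟩ := k2 ⟨1, 1, false, false⟩ (by decide)
  obtain ⟨t, ht⟩ := k2 mt (by decide)
  obtain ⟨a1, a2⟩ := F.trV hα (by decide)
  have kM : k ∈ M := h2 (mem_norm_of_cj_le (by
    rintro - ⟨-, ⟨v, hv, rfl⟩, rfl⟩
    rcases t4f v hv 1 with rfl | rfl | rfl | rfl
    · simp
    · exact ⟨_, a2, a1.symm⟩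
    · exact ⟨mz, show mz ∈ mV by decide, k1.symm⟩
    · exact ⟨_, t4g _ a2, by rw [map_mul f mz, map_mul f _ mz, ← a1, ← k1, ← cmul]; rfl⟩))
  have key : ∀ h : G, ∀ v ∈ mV, h * f mz * h⁻¹ = f v → h ∈ M := fun h v hv e => by
    rcases (t4a v).2.2.2.2.2.2.2.2.1 hv with rfl | rfl | ⟨c, hc⟩
    · exact absurd rfl (F.zc_tr e (by decide)).1
    · exact h1 (mem_cent1.2 (mul_inv_eq_iff_eq_mul.1 e))
    · have : k * f c * h ∈ M := h1 (mem_cent1.2 (mul_inv_eq_iff_eq_mul.1 (by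
        rw [← k1, ← hc, map_mul, map_mul, map_inv, ← e]
        conv_lhs => rw [show f c * (h * f mz * h⁻¹) * (f c)⁻¹ = f ma by rw [e, ← hc]; simp, k1]
        group)))
      rwa [mul_mem_cancel_left (mul_mem kM (TM c))] at this
  obtain ⟨h, h3, h4⟩ := F.extz (p := mt) (by decide)
  obtain ⟨β, hβ⟩ := h4 (ma * mw) (by decide)
  obtain ⟨b1, b2⟩ := F.trV hβ (by decide)
  have hM := key h _ b2 b1
  have e3 : k * f (⟨1, 1, false, false⟩ * mt) * k⁻¹ = f (α * t) := by rw [map_mul, cmul, hα, ht, map_mul]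
  have tz := F.zc_tr ht (by decide)
  have tQ : t ∉ mQ := t4d t α tz (fun c => absurd (F.zc_tr (g := k⁻¹) (q := ⟨1, 1, false, false⟩ * mt)
      (by rw [← e3]; group) c) (by decide))
    (F.one.1 (by rw [map_mul, ← e3, ← cmul, ← map_mul, show (⟨1, 1, false, false⟩ * mt) * (⟨1, 1, false, false⟩ * mt) = 1
      by decide]; simp)) a2 (F.zc_tr a1 (by decide)).1 fun c => by
        have := a1.trans ((congrArg f c).trans k1.symm)
        rw [HJS.cinj, F.eq] at this; exact absurd this (by decide)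
  obtain ⟨c, hc⟩ := t4e p t hp tz tQ
  have e0 : f c * f p * (f c)⁻¹ = f (c * p * c⁻¹) := by simp
  rcases hc with hc | hc | hc | hc <;> rw [hc] at e0
  · exact ⟨_, TM c, e0⟩
  · exact ⟨k * f c, mul_mem kM (TM c), by rw [← k1, ← e0]; group⟩
  · exact ⟨h * f c, mul_mem hM (TM c), by rw [← h3, ← e0]; group⟩
  · exact ⟨h * k⁻¹ * f c, mul_mem (mul_mem hM (inv_mem kM)) (TM c), by
      rw [← h3, show f mt = k⁻¹ * (f c * f p * (f c)⁻¹) * k by rw [e0, ← ht]; group]; group⟩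

variable (hH : C1[f mz] ≤ Op' 2 C1[f mz] ⊔ N[mQ.map f])
include hH

theorem sq_cent {d : G} (hd : d ∈ C[mQ.map f]) : d * d ∈ Oc (f mz) := by
  have := Nat.fact_prime_two
  have zQ : f mz ∈ mQ.map f := mem_map_of_mem f (by decide)
  have DH : C[mQ.map f] ≤ C1[f mz] := cent_le_cent1 zQ
  have TQ := F.TN mQ (by decide +kernel)
  have h1 : ∀ y ∈ C[mQ.map f] ⊓ f.range, y = 1 ∨ y = f mz := fun y hy => by
    obtain ⟨h2, c, rfl⟩ := mem_inf.1 hy
    exact ((t4a c).2.2.2.2.2.2.1 fun q hq => F.eq.1 (by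
      rw [map_mul, map_mul]; exact h2 _ (mem_map_of_mem f hq))).imp (fun e => by rw [e, map_one]) fun e => by rw [e]
  have h2 := Burnside_normal_complement (Sylow_setI_normal (cent_normal _) (pHall_subl TQ le_top F.syl)) fun g hg y hy => by
    rcases h1 y hy with rfl | rfl
    · simp
    · exact (mem_cent1.1 (DH hg.1)).symm
  have nO : C1[f mz] ≤ N[Oc (f mz)] := (pcore_normal _ _).norm
  have h3 : Op' 2 C[mQ.map f] ≤ Oc (f mz) := le_sup_right.trans (le_Op' (X := Oc (f mz) ⊔ Op' 2 C[mQ.map f])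
    ⟨sup_le (pcore_sub _ _) ((pcore_sub _ _).trans DH), hH.trans (sup_le (normsG le_sup_left)
      (normsY (F.NQH.trans nO) (norms_pcore _ (cent_normal _).norm)))⟩
    (pnat_odd.1 (pgroupY (.inr ((pcore_sub _ _).trans (DH.trans nO))) (pcore_pgroup _ _) (pcore_pgroup _ _))))
  obtain ⟨o, ho, s, hs, rfl⟩ := (mem_sup_norml h2.norm).1 (h2.sup.ge hd)
  rcases h1 s hs with rfl | rfl
  · simpa using mul_mem (h3 ho) (h3 ho)
  · have := mem_cent1.1 (DH (pcore_sub _ _ ho))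
    rw [show o * f mz * (o * f mz) = o * o * f (mz * mz) by rw [map_mul, mul_assoc o, ← mul_assoc (f mz), ← this]; group,
      show mz * mz = 1 by decide, map_one, mul_one]
    exact mul_mem (h3 ho) (h3 ho)

variable (haut : ∀ n ∈ N[mQ.map f], ∀ p ∈ mQ, p ≠ 1 → p ≠ mz → n * f p = f p * n → n ^ 4 ∈ C[mQ.map f])
include haut

theorem L1 {X : Subgroup G} (hX : X ≤ C1[f mz]) (o : Odd #X) {p : Md} (hp : p ∈ mQ) (p1 : p ≠ 1) (pz : p ≠ mz)
    (hn : f p ∈ N[X]) : X ≤ Oc (f mz) := fun y hy => by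
  have := Nat.fact_prime_two
  have nO : Oc (f mz) ⊴ C1[f mz] := pcore_normal _ _
  have oX : Odd #(Oc (f mz) ⊔ X) :=
    pnat_odd.1 (pgroupY (.inr (hX.trans nO.norm)) (pcore_pgroup _ _) (pnat_odd.2 o))
  obtain ⟨c, hc, n, hn', rfl⟩ := (mem_sup_norml (F.NQH.trans nO.norm)).1 (hH (hX hy))
  obtain ⟨q, hq, e⟩ := conj_mem_of_norm hn' (mem_map_of_mem f hp)
  have h1 : f (q * p⁻¹) ∈ Oc (f mz) ⊔ X := by
    have h2 : c * n * (f p * (c * n)⁻¹ * (f p)⁻¹) ∈ X := mul_mem hy (conj_mem_of_norm hn (inv_mem hy))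
    have h3 := nO.conj_mem (F.zS ⟨q * p⁻¹, rfl⟩) hc
    have h4 := nO.conj_mem (F.zS ⟨p, rfl⟩) hc
    rw [show f (q * p⁻¹) = c⁻¹ * (c * n * (f p * (c * n)⁻¹ * (f p)⁻¹)) * (f p * c * (f p)⁻¹) by
      rw [map_mul, map_inv, e]; group]
    exact mul_mem (mul_mem (mem_sup_left (inv_mem hc)) (mem_sup_right h2)) (mem_sup_left h4)
  have h2 : q = p := mul_inv_eq_one.1 (F.one.1 (mem_bot.1 ((coprime_TI (cop2 oX F.syl.pg)).le ⟨h1, _, rfl⟩)))
  have h3 := F.sq_cent hH (haut n hn' p hp p1 pz (mul_inv_eq_iff_eq_mul.1 (h2 ▸ e.symm)))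
  have hN := nO.subgroupOf
  let π := QuotientGroup.mk' ((Oc (f mz)).subgroupOf C1[f mz])
  have k1 : ∀ x : C1[f mz], π x = 1 ↔ (x : G) ∈ Oc (f mz) := fun x => QuotientGroup.eq_one_iff x
  have h4 : π ⟨c * n, hX hy⟩ ^ 8 = 1 := by
    rw [show (⟨c * n, hX hy⟩ : C1[f mz]) = ⟨c, nO.le hc⟩ * ⟨n, F.NQH hn'⟩ from rfl, map_mul, (k1 _).2 hc, one_mul,
      ← map_pow, k1, show 8 = 4 + 4 from rfl, pow_add]
    exact h3
  have h5 : Odd (orderOf (π ⟨c * n, hX hy⟩)) :=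
    (odd_elt o hy).of_dvd_nat ((orderOf_map_dvd π _).trans (orderOf_coe (⟨c * n, hX hy⟩ : C1[f mz])).symm.dvd)
  exact (k1 ⟨c * n, hX hy⟩).1 (orderOf_eq_one_iff.1 (Nat.eq_one_of_dvd_coprimes
    ((Nat.coprime_two_right.2 h5).pow_right 3) dvd_rfl (orderOf_dvd_of_pow_eq_one h4)))

theorem bal {a b : G} (ha : a ∈ mE.map f) (hb : b ∈ mE.map f) (b1 : b ≠ 1) : Oc a ⊓ C1[b] ≤ Oc b := by
  have := Nat.fact_prime_two
  have ab : Abelem 2 (mE.map f) := abelem_of (by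
    rintro - ⟨p, hp, rfl⟩; rw [← map_mul, ((t4a p).2.2.2.1 hp).2.1, map_one])
  have nX : mE.map f ≤ N[Oc a ⊓ C1[b]] := normsI (norms_pcore _ (normsG (le_cent1_iff.2 (ab.cent ha))))
    (normsG (le_cent1_iff.2 (ab.cent hb)))
  have Eb := le_cent1_iff.2 (ab.cent hb)
  obtain ⟨b, hb', rfl⟩ := hb
  obtain ⟨g, eg⟩ := isConj_iff.1 (F.hz b (((t4a b).2.2.2.1 hb').2.2.resolve_left fun e => b1 (by rw [e, map_one])))
  obtain ⟨c, hc, e⟩ := Sylow_Jsub F.sylH (Q := cj g (mE.map f)) (by rw [← eg, C1_conj]; exact cj_mono g Eb)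
    (IsPGroup.cj ab.pg g)
  rw [← cj_mul] at e
  have eh : c * g * f b * (c * g)⁻¹ = f mz := by
    rw [show c * g * f b * (c * g)⁻¹ = c * (g * f b * g⁻¹) * c⁻¹ by group, eg, mem_cent1.1 hc, mul_inv_cancel_right]
  generalize c * g = h at e eh
  have key : ∀ x ∈ mE, x ≠ 1 ∧ x ≠ b → ∀ y ∈ mQ, h * f x * h⁻¹ = f y → Oc a ⊓ C1[f b] ≤ Oc (f b) :=
    fun x hx hx1 y hy exy => by
      rw [← cj_le_cj (g := h), ← OcJ, eh]
      refine F.L1 hH haut (by rw [← eh, C1_conj]; exact cj_mono h inf_le_right)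
        (by rw [card_cj]; exact oddSg inf_le_left (odd_Op' _)) hy (fun c => hx1.1 ?_) (fun c => hx1.2 ?_) ?_
      · rwa [c, map_one, conj_eq_one_iff, F.one] at exy
      · rwa [c, ← eh, HJS.cinj, F.eq] at exy
      · rw [N_cj, ← exy]; exact conj_mem_cj h (nX (mem_map_of_mem f hx))
  obtain ⟨x, hx, x', hx', h1, h2, h3⟩ := t4b b hb'
  obtain ⟨y, ey⟩ := e (conj_mem_cj h (mem_map_of_mem f hx))
  obtain ⟨y', ey'⟩ := e (conj_mem_cj h (mem_map_of_mem f hx'))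
  rcases t4c y y' with c | c | c
  · exact key x hx h1 y c ey.symm
  · exact key x' hx' h2 y' c ey'.symm
  · exact key _ (mul_mem hx hx') h3 _ c (by rw [map_mul, cmul, ← ey, ← ey', map_mul])

theorem core [IsSimpleGroup G] : Op' 2 C1[f mz] = ⊥ := by
  have := Nat.fact_prime_two
  have ab : Abelem 2 (mE.map f) := abelem_of (by
    rintro - ⟨p, hp, rfl⟩; rw [← map_mul, ((t4a p).2.2.2.1 hp).2.1, map_one])
  have VE : mV.map f ≤ mE.map f := map_mono fun p => (t4a p).2.2.2.2.2.1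
  obtain ⟨h1, h2⟩ := S0217.result (p := 2) (mE.map f) (le_cent_iff.1 ab.cent) (fun a ha => ab.pow ha)
    (by rw [F.card, card_mE]; omega) Oc (fun a _ _ => pcore_sub _ _) (fun a _ _ => (odd_Op' _).not_two_dvd_nat)
    (fun a ha _ b hb x hx => conj_mem_of_norm (norms_pcore _ (normsG (le_cent1_iff.2 (ab.cent ha))) hb) hx)
    (fun a _ _ => S0205.result (odd_Op' _)) fun a ha _ b hb b1 => F.bal hH haut ha hb b1
  have o : Odd #(Wd (mE.map f)) := Nat.odd_iff.2 (Nat.two_dvd_ne_zero.1 h1)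
  have nE := norm_of_cj WdJ (mE.map f)
  have hV : Wd (mV.map f) = Wd (mE.map f) := le_antisymm (iSup_le fun a => le_Wd (VE a.2.1) a.2.2)
    (coprime_abelian_gen_cent1 (abelemS VE ab).abelian (fun h => by
      have := Nat.le_of_dvd two_pos (cyclic_abelem_card_dvd (abelemS VE ab) h)
      rw [F.card, card_mV] at this; omega) (VE.trans ((normG _).trans nE)) (cop2 o (F.pg _))
      fun a ha a1 => (h2 a (VE ha) a1).le.trans (le_Wd ha a1))
  have z1 : f mz ≠ 1 := fun c => absurd (F.one.1 c) (by decide)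
  have zz : f mz * f mz = 1 := by rw [← map_mul, show mz * mz = 1 by decide, map_one]
  have OW : Oc (f mz) ≤ Wd (mE.map f) := le_Wd (mem_map_of_mem f (by decide)) z1
  have HM : C1[f mz] ≤ N[Wd (mE.map f)] := hH.trans (sup_le (OW.trans (normG _)) (F.NQE.trans nE))
  have VM : N[mV.map f] ≤ N[Wd (mE.map f)] := hV ▸ norm_of_cj WdJ _
  by_cases hM : N[Wd (mE.map f)] = ⊤
  · rcases IsSimpleGroup.eq_bot_or_eq_top_of_normal _ (normalizer_eq_top_iff.1 hM) with e | e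
    · exact le_bot_iff.1 (e ▸ OW)
    · exact absurd (odd_elt o (e ▸ mem_top (f mz))) (by rw [Invol.orderOf_two_iff.2 ⟨zz, z1⟩]; decide)
  generalize N[Wd (mE.map f)] = M at HM VM hM
  have sM := pHall_subl (F.zS.trans HM) le_top F.syl
  obtain ⟨S, hS⟩ := sylow_of_sylowIn_top F.syl
  obtain ⟨K, hK⟩ := S1175.result M hM (f mz) (Invol.orderOf_two_iff.2 ⟨zz, z1⟩) (HM (F.zS ⟨_, rfl⟩))
    ⟨S, by rw [← SetLike.mem_coe, ← Sylow.coe_coe, hS]; exact ⟨_, rfl⟩, fun s hs => mem_cent1.1 (F.zS (hS ▸ hs))⟩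
    (fun g hg => by
      obtain ⟨m, hm, e⟩ := Sylow_Jsub sM (zpowers_le.2 hg) (pg_zp (by rw [← cmul, zz]; simp))
      obtain ⟨p, ep⟩ := e (conj_mem_cj m (mem_zpowers _))
      obtain ⟨m', hm', e'⟩ := F.fus HM VM (F.zc_tr (g := m * g) (q := p) (by rw [ep]; group) (show zc mz by decide))
      have : m' * m * g ∈ M := HM (mem_cent1.2 (mul_inv_eq_iff_eq_mul.1 (by
        conv_rhs => rw [← e', ep]
        group)))
      rwa [mul_mem_cancel_left (mul_mem hm' hm)] at this)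
    fun g hc hne => by
      obtain ⟨m, hm, e⟩ := Sylow_Jsub F.sylH (zpowers_le.2 (mem_cent1.2 hc.symm)) (pg_zp (by rw [← cmul, zz]; simp))
      obtain ⟨p, ep⟩ := e (conj_mem_cj m (mem_zpowers _))
      have mz' : m * f mz * m⁻¹ = f mz := mul_inv_eq_iff_eq_mul.2 (mem_cent1.1 hm)
      obtain ⟨m', hm', e'⟩ := F.fus HM VM ((t4a p).2.2.2.2.2.2.2.2.2
        (F.zc_tr (g := m * g) (q := p) (by rw [ep]; group) (show zc mz by decide)) fun c => hne (by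
          rw [c] at ep; exact (HJS.cinj.1 (mz'.trans ep)).symm))
      rw [← cj_le_iff_of_mem (mul_mem hm' (HM hm)), ← C1_conj]
      refine le_of_eq_of_le (congrArg (fun x : G => C1[x]) ?_) HM
      refine Eq.trans ?_ e'
      rw [map_mul, ep]
      calc _ = m' * (m * f mz * m⁻¹ * (m * (g * f mz * g⁻¹) * m⁻¹)) * m'⁻¹ := by group
        _ = _ := by rw [mz']
  exact absurd (Invol.SE.isConj hK (Invol.orderOf_two_iff.2 ⟨zz, z1⟩) (Invol.orderOf_two_iff.2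
    ⟨by rw [← map_mul, show mw * mw = 1 by decide, map_one], fun c => absurd (F.one.1 c) (by decide)⟩)) F.nzw

end Fz

end Cfsg.Agent.M12S
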