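import Cfsg.Agent.M12S.T3b
import Cfsg.Agent.M12S.T3
import Cfsg.Agent.M12S.T2
import Cfsg.Agent.M12R.Main
import Cfsg.Agent.S0200

/-! Sylow 2-subgroup of type `M12`, two classes: identification of `C(z)` (helper12). -/

set_option autoImplicit false
set_option linter.unusedSectionVars false
set_option synthInstance.maxSize 100000
set_option synthInstance.maxHeartbeats 400000

namespace Cfsg.Agent.M12S

open Cfsg.Agent.BG Subgroup
open Cfsg.Agent.HJS (Oc cmul cinj ncard_cls)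

theorem u1 : ∀ p : Md, (p ∈ mQ ∨ mu * p ∈ mQ) ∧ (p * ma = ma * p ↔ p ∈ mD) ∧
    (p ∈ mE → p ≠ 1 → p ≠ mz → p ∈ (Finset.univ.filter fun p : Md => p ∈ mE ∧ p ≠ 1 ∧ p ≠ mz)) ∧
    p * (mw * mt) * p⁻¹ ≠ mw ∧ (p * p ≠ 1 → p * p ≠ mz → p * p * (p * p) = 1 → ap (p * p) ma) := by decide +kernel
theorem card_mD : Nat.card mD = 32 := by rw [Nat.card_eq_fintype_card]; decide +kernel
theorem u2 : ∀ a ∈ [(⟨1, 1, false, false⟩ : Md), ⟨1, 3, false, false⟩], ∀ b ∈ mQ, b * b = mz → ¬ ap b a → ∀ c ∈ mQ,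
    c * c = mz → ¬ ap c b → ¬ ap a c → (a * b = b * a ↔ b * c = c * b) → (b * c = c * b ↔ c * a = a * c) →
      a * b ≠ b * a ∧ (c = a * b ∨ c⁻¹ = a⁻¹ * b⁻¹) := by decide +kernel
theorem u3 : ∀ a : Md, ap a ⟨1, 1, false, false⟩ → ∀ c : Md, ap c ⟨1, 3, false, false⟩ → ∀ b ∈ mQ, b * b = mz →
    a * b ≠ b * a → ∀ d ∈ mQ, d * d = mz → c * d ≠ d * c → a * b * a⁻¹ * b⁻¹ = mz ∧ c * d * c⁻¹ * d⁻¹ = mz ∧
      a * c = c * a ∧ a * d = d * a ∧ b * c = c * b ∧ b * d = d * b ∧ ∀ q ∈ mQ, ∃ x ∈ [1, a, a⁻¹, a * a], ∃ y ∈ [1, b],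
        ∃ u ∈ [1, c], ∃ v ∈ [1, d], q = x * y * u * v := by decide +kernel

variable {G : Type*} [Group G] [Finite G] {f : Md →* G}

namespace Fz
variable (F : Fz f) (hO : Op' 2 C1[f mz] = ⊥) (hN : C1[f mz] ≤ N[mQ.map f])
include F hO hN

theorem two_of {g : G} (hg : g ∈ C1[f mz]) {p p' : Md} (hp : p ∈ mQ) (p1 : p ≠ 1) (pz : p ≠ mz) (h : ap p' p)
    (e : g * f p * g⁻¹ = f p') : g ^ 8 = 1 := by
  obtain ⟨K, KH, hi, hK⟩ := F.h0
  have hz := mul_inv_eq_iff_eq_mul.2 (mem_cent1.1 hg)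
  have k : ∀ {g : G} {q : Md}, g * f mz * g⁻¹ = f mz → g * f q * g⁻¹ = f q ∨ g * f q * g⁻¹ = f q * f mz →
      g * g * f q * (g * g)⁻¹ = f q := fun {g q} hz h => by
    rcases h with h | h
    · exact F.tr_comp h h
    · have h2 := F.tr_mul (h.trans (map_mul f _ _).symm) hz
      rw [mul_assoc q, show mz * mz = 1 by decide, mul_one] at h2
      exact F.tr_comp (h.trans (map_mul f _ _).symm) h2
  have h1 := F.aut hK KH ((Invol.mul_mem_iff_of_relIndex_two hi hg hg).2 .rfl) (hN (mul_mem hg hg)) hp p1 pz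
    (.inl (k hz (h.imp (fun h => by rw [e, h]) fun h => by rw [e, h, map_mul])))
  have h2 := F.sq_cent (hN.trans le_sup_right) (d := g * g * (g * g)) (by
    rintro - ⟨q, hq, rfl⟩
    rw [eq_comm, ← mul_inv_eq_iff_eq_mul]
    exact k (F.tr_comp hz hz) (h1 q hq))
  rw [show Oc (f mz) = ⊥ from hO, mem_bot] at h2
  rw [← h2]; simp [pow_succ, mul_assoc]

theorem memT {g : G} (hg : g ∈ C1[f mz]) {p' : Md} (h : ap p' ma) (e : g * f ma * g⁻¹ = f p') : g ∈ f.range := by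
  have := Nat.fact_prime_two
  let V := mV.map f
  have k : ∀ g ∈ C1[f mz] ⊓ N[V], ∃ p', ap p' ma ∧ g * f ma * g⁻¹ = f p' := fun g hg => by
    obtain ⟨v, hv, e⟩ := conj_mem_of_norm hg.2 (mem_map_of_mem f (show ma ∈ mV by decide))
    rcases t4f v hv 1 with rfl | rfl | rfl | rfl
    · exact absurd rfl (F.zc_tr e.symm (by decide)).1
    · exact absurd ((F.tr_eq e.symm (mul_inv_eq_iff_eq_mul.2 (mem_cent1.1 hg.1))).1 rfl) (by decide)
    · exact ⟨_, .inl rfl, e.symm⟩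
    · exact ⟨_, by decide, e.symm⟩
  have hp : IsPGroup 2 (C1[f mz] ⊓ N[V] : Subgroup G) := fun ⟨g, hg⟩ => by
    obtain ⟨p', h, e⟩ := k g hg
    exact ⟨3, Subtype.ext (F.two_of hO hN hg.1 (by decide) (by decide) (by decide) h e)⟩
  refine (Hall_max F.syl (le_inf F.zS (F.TN mV (by decide +kernel))) le_top hp.pi).le ⟨hg, mem_norm_of_cj_le ?_⟩
  have hz := mul_inv_eq_iff_eq_mul.2 (mem_cent1.1 hg)
  have hp' : p' ∈ mV := by rcases h with rfl | rfl <;> decide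
  rintro - ⟨-, ⟨v, hv, rfl⟩, rfl⟩
  rcases t4f v hv 1 with rfl | rfl | rfl | rfl
  · simp
  · exact ⟨mz, show mz ∈ mV by decide, hz.symm⟩
  · exact ⟨_, hp', e.symm⟩
  · exact ⟨_, mul_mem (show mz ∈ mV by decide) hp', (F.tr_mul hz e).symm⟩

omit hO hN in
theorem neT : ¬ C1[f mz] ≤ f.range := fun h => by
  obtain ⟨g, hg, e⟩ := F.hw (mw * mt) (by decide)
  obtain ⟨k, rfl⟩ := h hg
  rw [← map_inv, ← map_mul, ← map_mul, F.eq] at e
  exact (u1 k).2.2.2.1 e

theorem card192 : #C1[f mz] = 192 := by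
  have := Nat.fact_prime_two
  have h1 : C1[f ma] ⊓ C1[f mz] = mD.map f := le_antisymm (fun g hg => by
    obtain ⟨k, rfl⟩ := F.memT hO hN hg.2 (.inl rfl) (mul_inv_eq_iff_eq_mul.2 (mem_cent1.1 hg.1))
    exact mem_map_of_mem f ((u1 k).2.1.1 (F.eq.1 (by rw [map_mul, map_mul]; exact mem_cent1.1 hg.1)))) (by
    rintro - ⟨k, hk, rfl⟩
    exact ⟨mem_cent1.2 (by rw [← map_mul, (u1 k).2.1.2 hk, map_mul]), F.zS ⟨k, rfl⟩⟩)
  have h2 : C1[f ma].relIndex C1[f mz] ≤ 6 := by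
    rw [← ncard_cls]
    refine (Set.ncard_le_ncard (t := f '' (Finset.univ.filter fun p : Md => p ∈ mE ∧ p ≠ 1 ∧ p ≠ mz)) ?_).trans
      ((Set.ncard_image_le).trans (by rw [Set.ncard_coe_finset]; decide +kernel))
    rintro - ⟨g, hg, rfl⟩
    obtain ⟨v, hv, e⟩ := conj_mem_of_norm (F.NQE (hN hg)) (mem_map_of_mem f (show ma ∈ mE by decide))
    exact ⟨v, (u1 v).2.2.1 hv (F.zc_tr e.symm (by decide)).1 fun c => absurd ((F.tr_eq e.symm
      (mul_inv_eq_iff_eq_mul.2 (mem_cent1.1 hg))).1 c) (by decide), e⟩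
  have h3 := card_mul_relIndex (inf_le_right : C1[f ma] ⊓ C1[f mz] ≤ _)
  rw [inf_relIndex_right, h1, F.card, card_mD] at h3
  have h4 := card_mul_relIndex F.zS
  rw [MonoidHom.range_eq_map, F.card, card_top, card_Md, ← MonoidHom.range_eq_map] at h4
  have h5 := F.sylH.not_dvd
  have h6 : f.range.relIndex C1[f mz] ≠ 1 := fun c => F.neT (relIndex_eq_one.1 c)
  omega

theorem exists_x : ∃ x ∈ C1[f mz], x ≠ 1 ∧ x ^ 3 = 1 ∧ f mu * x * (f mu)⁻¹ = x⁻¹ := by
  have := Nat.fact_prime_two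
  obtain ⟨x, x1, xo, e⟩ := S0200.result (G := C1[f mz]) ⟨f mu, F.zS ⟨_, rfl⟩⟩
    ((orderOf_coe _).symm.trans (F.o2 (by decide) (by decide))) fun N _ pN hN' => F.neT fun g hg => by
      have h1 := normal_sub_Hall F.sylH (normal_map_subtype ‹N.Normal›) (pN.map _).pi
      obtain ⟨p, ep⟩ := h1 ((normal_map_subtype ‹N.Normal›).conj_mem hg (mem_map_of_mem _ hN'))
      obtain ⟨q, -, eq⟩ := conj_mem_of_norm (hN hg) (mem_map_of_mem f (show mt ∈ mQ by decide))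
      have e1 := F.tr_mul ep.symm eq.symm
      have e2 := F.tr_mul e1 e1
      rw [show mu * mt * (mu * mt) = ma by decide] at e2
      have zc' := F.zc_tr e2 (by decide)
      exact F.memT hO hN hg ((u1 _).2.2.2.2 zc'.1 (fun c => absurd ((F.tr_eq e2
        (mul_inv_eq_iff_eq_mul.2 (mem_cent1.1 hg))).1 c) (by decide)) zc'.2.1) e2
  refine ⟨x, x.2, fun c => x1 (Subtype.ext c), ?_, congrArg Subtype.val e⟩
  have h1 := orderOf_dvd_natCard x
  rw [F.card192 hO hN] at h1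
  exact congrArg Subtype.val (orderOf_dvd_iff_pow_eq_one.1
    (((Nat.coprime_two_right.2 xo).pow_right 6).dvd_of_dvd_mul_left (h1 : orderOf x ∣ 2 ^ 6 * 3)))

theorem iso [IsSimpleGroup G] : Cfsg.Spor.IsoM12 G := by
  obtain ⟨x, xH, x1, x3, tx⟩ := F.exists_x hO hN
  have xz := mul_inv_eq_iff_eq_mul.2 (mem_cent1.1 xH)
  have tQ : ∀ p ∈ mQ, ∃ q ∈ mQ, x * f p * x⁻¹ = f q := fun p hp =>
    (conj_mem_of_norm (hN xH) (mem_map_of_mem f hp)).imp fun _ h => ⟨h.1, h.2.symm⟩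
  have nf : ∀ {p q : Md}, p ∈ mQ → p * p = mz → x * f p * x⁻¹ = f q → ¬ ap q p := fun {p q} hp p2 e h => x1 (by
    have := F.two_of hO hN xH hp (by rintro rfl; revert p2; decide) (by rintro rfl; revert p2; decide) h e
    calc x = (x ^ 3) ^ 3 * (x ^ 8)⁻¹ := by group
      _ = 1 := by rw [x3, this]; simp)
  have key : ∀ a0 ∈ [(⟨1, 1, false, false⟩ : Md), ⟨1, 3, false, false⟩], ∃ a b, ap a a0 ∧ b ∈ mQ ∧ b * b = mz ∧
      a * b ≠ b * a ∧ x * f a * x⁻¹ = f b ∧ x * f b * x⁻¹ = f (a * b) := fun a ha => by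
    have aQ : a ∈ mQ ∧ a * a = mz ∧ ap a⁻¹ a := by revert a; decide
    obtain ⟨b, bQ, e1⟩ := tQ a aQ.1
    obtain ⟨c, cQ, e2⟩ := tQ b bQ
    have e3 : x * f c * x⁻¹ = f a := by
      rw [← e2, ← e1, show x * (x * (x * f a * x⁻¹) * x⁻¹) * x⁻¹ = x ^ 3 * f a * (x ^ 3)⁻¹ by
        simp [pow_succ, mul_assoc], x3]; simp
    have b2 := (F.tr_eq (F.tr_mul e1 e1) xz).2 aQ.2.1
    have c2 := (F.tr_eq (F.tr_mul e2 e2) xz).2 b2
    obtain ⟨h1, h2⟩ := u2 a ha b bQ b2 (nf aQ.1 aQ.2.1 e1) c cQ c2 (nf bQ b2 e2) (nf cQ c2 e3)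
      (F.tr_eq (F.tr_mul e1 e2) (F.tr_mul e2 e1)).symm (F.tr_eq (F.tr_mul e2 e3) (F.tr_mul e3 e2)).symm
    rcases h2 with rfl | h2
    · exact ⟨a, b, .inl rfl, bQ, b2, h1, e1, e2⟩
    · refine ⟨a⁻¹, b⁻¹, aQ.2.2, inv_mem bQ, by rw [← mul_inv_rev, b2]; decide, fun c => h1 ?_, ?_, ?_⟩
      · rwa [← mul_inv_rev, ← mul_inv_rev, inv_inj, eq_comm] at c
      · rw [map_inv, map_inv, ← e1]; group
      · rw [← h2, map_inv, map_inv, ← e2]; group
  obtain ⟨a, b, a1, bQ, b2, ab, xa, xb⟩ := key ⟨1, 1, false, false⟩ (by simp)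
  obtain ⟨c, d, c1, dQ, d2, cd, xc, xd⟩ := key ⟨1, 3, false, false⟩ (by simp)
  obtain ⟨r1, r2, r3, r4, r5, r6, r7⟩ := u3 a a1 c c1 b bQ b2 ab d dQ d2 cd
  have fa : a * a = mz ∧ mu * a * mu⁻¹ = a⁻¹ := by rcases a1 with rfl | rfl <;> decide
  have fc : c * c = mz ∧ mu * c * mu⁻¹ = c⁻¹ := by rcases c1 with rfl | rfl <;> decide
  have tb : ∀ {a b : Md}, mu * a * mu⁻¹ = a⁻¹ → x * f a * x⁻¹ = f b → x * f b * x⁻¹ = f (a * b) →
      f mu * f b * (f mu)⁻¹ = (f a * f b)⁻¹ := fun {a b} h e1 e2 => by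
    have h' : f mu * f a * (f mu)⁻¹ = (f a)⁻¹ := by rw [← map_inv, ← map_mul, ← map_mul, h, map_inv]
    have x' : x⁻¹ = x * x := by rw [inv_eq_iff_mul_eq_one, ← x3]; simp [pow_succ, mul_assoc]
    calc _ = f mu * x * (f mu)⁻¹ * (f mu * f a * (f mu)⁻¹) * (f mu * x * (f mu)⁻¹)⁻¹ := by rw [← e1]; group
      _ = x * x * (f a)⁻¹ * (x * x)⁻¹ := by rw [tx, h', x']
      _ = _ := by rw [← map_mul f a b, ← e2, ← e1]; simp [mul_assoc]
  have cm : ∀ {p q : Md}, p * q = q * p → Commute (f p) (f q) := fun h => (show Commute _ _ from h).map f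
  have mm : ∀ {p q : Md}, p * p = q → f p * f p = f q := fun h => by rw [← map_mul, h]
  have L : M12R.Loc (f a) (f b) (f c) (f d) x (f mu) (f mz) :=
    { aa := mm fa.1, bb := mm b2, cc := mm fc.1, dd := mm d2
      zz := (mm (show mz * mz = 1 by decide)).trans (map_one f)
      ab := by simp only [← map_mul, ← map_inv, r1]
      cd := by simp only [← map_mul, ← map_inv, r2]
      ac := cm r3, ad := cm r4, bc := cm r5, bd := cm r6
      xxx := by rw [← x3]; simp [pow_succ]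
      tz := cm (by decide)
      xa := xa, xb := xb.trans (map_mul f _ _), xc := xc, xd := xd.trans (map_mul f _ _), tx := tx
      gen := fun K ha hb hc hd hx ht => by
        have QK : ∀ q ∈ mQ, f q ∈ K := fun q hq => by
          obtain ⟨x, hx, y, hy, u, hu, v, hv, rfl⟩ := r7 q hq
          simp only [List.mem_cons, List.not_mem_nil, or_false] at hx hy hu hv
          simp only [map_mul]
          refine mul_mem (mul_mem (mul_mem ?_ ?_) ?_) ?_
          · rcases hx with rfl | rfl | rfl | rfl <;> simp [ha, mul_mem]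
          · rcases hy with rfl | rfl <;> simp [hb]
          · rcases hu with rfl | rfl <;> simp [hc]
          · rcases hv with rfl | rfl <;> simp [hd]
        have TK : f.range ≤ K ⊓ C1[f mz] := le_inf (by
          rintro - ⟨p, rfl⟩
          rcases (u1 p).1 with h | h
          · exact QK p h
          · have := QK _ h
            rwa [map_mul, mul_mem_cancel_left ht] at this) F.zS
        have h1 := cardSg TK
        rw [MonoidHom.range_eq_map, F.card, card_top, card_Md] at h1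
        have h2 : 3 ∣ #(K ⊓ C1[f mz]) := by
          rw [← (orderOf_eq_prime_iff (hp := Nat.fact_prime_three)).2 ⟨x3, x1⟩]
          exact orderOf_dvd_cardG (mem_inf.2 ⟨hx, xH⟩)
        exact (eq_of_le_of_card_ge (inf_le_right : K ⊓ C1[f mz] ≤ _) (by
          rw [F.card192 hO hN]
          exact Nat.le_of_dvd Nat.card_pos (Nat.Coprime.mul_dvd_of_dvd_of_dvd (by decide) h1 h2))).ge.trans inf_le_left
      card := F.card192 hO hN
      tt := (mm (show mu * mu = 1 by decide)).trans (map_one f)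
      ta := by change f mu * f a * (f mu)⁻¹ = _; rw [← map_inv, ← map_mul, ← map_mul, fa.2, map_inv]
      tb := tb fa.2 xa xb
      tc := by change f mu * f c * (f mu)⁻¹ = _; rw [← map_inv, ← map_mul, ← map_mul, fc.2, map_inv]
      td := tb fc.2 xc xd }
  exact L.iso_of_simple fun h => ab (F.eq.1 (by rw [map_mul, map_mul]; exact h.1.1 _ _))

end Fz

end Cfsg.Agent.M12S
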